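import Groth.Agent.Pinch.BaseChange
import Groth.Agent.Pinch.Charts
import Groth.Agent.Pinch.Props
import Mathlib.CategoryTheory.Limits.Types.Pullbacks

/-!
A scheme is the union of two closed subschemes whose ideals meet in zero.
-/

set_option autoImplicit false
set_option backward.isDefEq.respectTransparency false
set_option backward.isDefEq.respectTransparency.types false
set_option linter.style.haveILetI false

universe u

open CategoryTheory CategoryTheory.Limits AlgebraicGeometry TopologicalSpace Opposite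

namespace Groth.Agent.LeffKill

theorem ker_appLE {X Y : Scheme.{u}} (f : X ⟶ Y) (W : Y.Opens) (C : X.Opens) (hC : C = f ⁻¹ᵁ W) :
    RingHom.ker (f.appLE W C hC.le).hom = RingHom.ker (f.app W).hom := by
  subst hC
  rw [Scheme.Hom.app_eq_appLE]

theorem surjective_appLE {X Y : Scheme.{u}} (f : X ⟶ Y) [IsClosedImmersion f] (W : Y.Opens) (hW : IsAffineOpen W)
    (C : X.Opens) (hC : C = f ⁻¹ᵁ W) : Function.Surjective (f.appLE W C hC.le).hom := by
  subst hC
  rw [← Scheme.Hom.app_eq_appLE]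
  exact f.app_surjective W hW

/-- The square of a sum of ideal sheaves meeting in zero is a pinching. -/
theorem isPinch_sup {X : Scheme.{u}} (T F : X.IdealSheafData) (h : T ⊓ F = ⊥) :
    Pinch.IsPinch (Scheme.IdealSheafData.inclusion (le_sup_left : T ≤ T ⊔ F))
      (Scheme.IdealSheafData.inclusion (le_sup_right : F ≤ T ⊔ F)) T.subschemeι F.subschemeι := by
  let i := Scheme.IdealSheafData.inclusion (le_sup_left : T ≤ T ⊔ F)
  let j := Scheme.IdealSheafData.inclusion (le_sup_right : F ≤ T ⊔ F)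
  let a := T.subschemeι
  let b := F.subschemeι
  let κ := (T ⊔ F).subschemeι
  have hi : i ≫ a = κ := Scheme.IdealSheafData.inclusion_subschemeι _
  have hj : j ≫ b = κ := Scheme.IdealSheafData.inclusion_subschemeι _
  haveI : IsClosedImmersion i := inferInstance
  have w : i ≫ a = j ≫ b := hi.trans hj.symm
  refine Pinch.isPinch_of_cover w (fun W : X.affineOpens => W.1) (Opens.ext (Set.eq_univ_of_forall fun x => by
    obtain ⟨U, hU, hxU, -⟩ := exists_isAffineOpen_mem_and_subset (x := x) (U := (⊤ : X.Opens)) trivial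
    exact Opens.mem_iSup.2 ⟨⟨U, hU⟩, hxU⟩)) (fun W => ⟨W.2, W.2.preimage a, W.2.preimage b,
      (W.2.preimage a).preimage i⟩) fun W => ?_
  let C := i ⁻¹ᵁ (a ⁻¹ᵁ W.1)
  have hC : C = κ ⁻¹ᵁ W.1 := by rw [← hi]; rfl
  let α := a.appLE W.1 (a ⁻¹ᵁ W.1) le_rfl
  let β := b.appLE W.1 (b ⁻¹ᵁ W.1) le_rfl
  let γ := i.appLE (a ⁻¹ᵁ W.1) C le_rfl
  let δ := j.appLE (b ⁻¹ᵁ W.1) C (Pinch.le_preimage w W.1)
  have hγ : α ≫ γ = κ.appLE W.1 C hC.le := by
    simp only [α, γ, Scheme.Hom.appLE_comp_appLE, hi]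
  have hδ : β ≫ δ = κ.appLE W.1 C hC.le := by
    simp only [β, δ, Scheme.Hom.appLE_comp_appLE, hj]
  have kα : ∀ x, α.hom x = 0 ↔ x ∈ T.ideal W := fun x => by
    rw [← RingHom.mem_ker, ker_appLE a W.1 _ rfl, Scheme.IdealSheafData.ker_subschemeι_app]
  have kβ : ∀ x, β.hom x = 0 ↔ x ∈ F.ideal W := fun x => by
    rw [← RingHom.mem_ker, ker_appLE b W.1 _ rfl, Scheme.IdealSheafData.ker_subschemeι_app]
  have kκ : ∀ x, (κ.appLE W.1 C hC.le).hom x = 0 ↔ x ∈ T.ideal W ⊔ F.ideal W := fun x => by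
    rw [← RingHom.mem_ker, ker_appLE κ W.1 C hC, Scheme.IdealSheafData.ker_subschemeι_app,
      Scheme.IdealSheafData.ideal_sup]
    rfl
  have hTF : T.ideal W ⊓ F.ideal W = ⊥ := by
    have := congrArg (fun J : X.IdealSheafData => J.ideal W) h
    simpa [Scheme.IdealSheafData.ideal_inf] using this
  refine IsPullback.of_map (forget CommRingCat.{u}) (hγ.trans hδ.symm)
    ((Types.isPullback_iff _ _ _ _).2 ⟨(congrArg (forget CommRingCat.{u}).map (hγ.trans hδ.symm)), ?_, ?_⟩)
  · rintro x x' ⟨h1, h2⟩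
    have h1' : α.hom x = α.hom x' := h1
    have h2' : β.hom x = β.hom x' := h2
    refine sub_eq_zero.1 ((Submodule.mem_bot Γ(X, W.1)).1 (hTF ▸ Submodule.mem_inf.2 ⟨(kα _).1 ?_, (kβ _).1 ?_⟩))
    · rw [map_sub, h1', sub_self]
    · rw [map_sub, h2', sub_self]
  · intro p q hpq
    obtain ⟨x, rfl⟩ := surjective_appLE a W.1 W.2 _ rfl p
    obtain ⟨y, rfl⟩ := surjective_appLE b W.1 W.2 _ rfl q
    have hxy : (κ.appLE W.1 C hC.le).hom (x - y) = 0 := by
      rw [map_sub, sub_eq_zero]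
      calc (κ.appLE W.1 C hC.le).hom x = γ.hom (α.hom x) := by rw [← hγ]; rfl
        _ = δ.hom (β.hom y) := hpq
        _ = _ := by rw [← hδ]; rfl
    obtain ⟨t, ht, f, hf, e⟩ := Submodule.mem_sup.1 ((kκ _).1 hxy)
    refine ⟨x - t, ?_, ?_⟩
    · show α.hom (x - t) = α.hom x
      rw [map_sub, (kα t).2 ht, sub_zero]
    · show β.hom (x - t) = β.hom y
      rw [show x - t = y + f by linear_combination -e, map_add, (kβ f).2 hf, add_zero]

end Groth.Agent.LeffKill
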