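import Groth.Agent.LeffKill.Depth
import Groth.Agent.LeffKill.Union
import Groth.Agent.LefDepth.Pd
import Groth.Agent.AbelMap.Section
import Groth.Agent.LefEssSurj.GlueNhd
import Groth.Agent.LefEssSurj.Nhd
import Groth.Agent.Purity.CompFF

/-!
Covers of the zero scheme of a section of an ample invertible module extend to neighbourhoods, by removing the
torsion supported on the zero scheme.
-/

set_option autoImplicit false
set_option maxHeartbeats 1000000
set_option linter.style.haveILetI false
set_option linter.unusedSectionVars false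
set_option backward.isDefEq.respectTransparency false
set_option backward.isDefEq.respectTransparency.types false
universe u

namespace Groth.Agent.LeffKill

open CategoryTheory CategoryTheory.Limits AlgebraicGeometry TopologicalSpace Opposite

noncomputable section

variable {X : Scheme.{u}}

/-- Functions vanishing off the support of an ideal meet a power of it in zero. -/
theorem exists_pow_inf [IsNoetherian X] (J : X.IdealSheafData) (U : X.Opens)
    (hU : ((J.support : Set X))ᶜ ⊆ (U : Set X)) : ∃ c : ℕ, U.ι.ker ⊓ J ^ (c + 1) = ⊥ := by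
  classical
  have key : ∀ W : X.affineOpens, ∃ c : ℕ, ∀ n, c ≤ n → U.ι.ker.ideal W ⊓ J.ideal W ^ n = ⊥ := fun W => by
    haveI : IsNoetherianRing Γ(X, W.1) := IsLocallyNoetherian.component_noetherian W
    let T := U.ι.ker.ideal W
    haveI : QuasiCompact U.ι := inferInstance
    have hkill : ∀ a ∈ J.ideal W, ∀ t ∈ T, ∃ n : ℕ, a ^ n * t = 0 := fun a ha t ht => by
      rw [show T = RingHom.ker (U.ι.app W.1).hom from Scheme.Hom.ker_apply _ _, RingHom.mem_ker] at ht
      haveI := W.2.isLocalization_basicOpen a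
      obtain ⟨⟨-, n, rfl⟩, hn⟩ := (IsLocalization.map_eq_zero_iff (Submonoid.powers a) Γ(X, X.basicOpen a) t).1 (by
        refine TopCat.Presheaf.section_ext (F := X.sheaf) _ _ _ fun x hx => ?_
        have hxU : x ∈ U := hU (LefDepth.notMem_support_of_mem_basicOpen W ha hx)
        have hxW : x ∈ W.1 := X.basicOpen_le a hx
        refine (X.presheaf.germ_res_apply (homOfLE (X.basicOpen_le a)) x hx t).trans ?_
        rw [map_zero]
        obtain ⟨⟨x, rfl⟩⟩ : Nonempty {z : (U : Scheme.{u}) // U.ι z = x} := ⟨⟨⟨x, hxU⟩, rfl⟩⟩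
        refine (ConcreteCategory.bijective_of_isIso (U.ι.stalkMap x)).1 ?_
        refine (Scheme.Hom.germ_stalkMap_apply U.ι W.1 x hxW t).trans ?_
        rw [map_zero, show (U.ι.app W.1) t = 0 from ht, map_zero])
      exact ⟨n, hn⟩
    have hrad : J.ideal W ≤ (Module.annihilator Γ(X, W.1) T).radical := fun a ha => by
      obtain ⟨S, hS⟩ := (IsNoetherian.noetherian T : T.FG)
      choose n hn using fun t : T => hkill a ha t.1 t.2
      have hST : ∀ s ∈ S, s ∈ T := fun s hs => hS ▸ Submodule.subset_span hs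
      refine ⟨∑ s ∈ S.attach, n ⟨s.1, hST s.1 s.2⟩, Module.mem_annihilator.2 fun t => Subtype.ext ?_⟩
      show a ^ _ * (t : Γ(X, W.1)) = 0
      have ht : (t : Γ(X, W.1)) ∈ Submodule.span Γ(X, W.1) (S : Set Γ(X, W.1)) := hS.symm ▸ t.2
      generalize (t : Γ(X, W.1)) = v at ht
      induction ht using Submodule.span_induction with
      | mem s hs =>
        obtain ⟨q, hq⟩ := pow_dvd_pow a (Finset.single_le_sum (f := fun s : S => n ⟨s.1, hST s.1 s.2⟩)
          (fun _ _ => Nat.zero_le _) (Finset.mem_attach S ⟨s, hs⟩))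
        rw [hq, mul_comm (a ^ _) q, mul_assoc, hn ⟨s, hST s hs⟩, mul_zero]
      | zero => exact mul_zero _
      | add s t _ _ hs ht => rw [mul_add, hs, ht, add_zero]
      | smul c s _ hs => rw [smul_eq_mul, mul_left_comm, hs, mul_zero]
    obtain ⟨N, hN⟩ := Ideal.exists_pow_le_of_le_radical_of_fg hrad (IsNoetherian.noetherian _)
    obtain ⟨k, hk⟩ := Ideal.exists_pow_inf_eq_pow_smul (J.ideal W) (T : Submodule Γ(X, W.1) Γ(X, W.1))
    refine ⟨N + k, fun n hn => eq_bot_iff.2 ?_⟩
    have h1 := hk n (by omega)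
    simp only [smul_eq_mul, Ideal.mul_top] at h1
    rw [inf_comm, h1]
    refine Ideal.mul_le.2 fun r hr x hx => ?_
    have hrA := hN (Ideal.pow_le_pow_right (by omega) hr)
    exact (congrArg Subtype.val (Module.mem_annihilator.1 hrA ⟨x, hx.2⟩) : _)
  choose c hc using key
  obtain ⟨S, hS⟩ := isCompact_univ.elim_finite_subcover (fun V : X.affineOpens => (V.1 : Set X))
    (fun V => V.1.2) (fun x _ => by
      obtain ⟨V, hV, hxV, -⟩ := exists_isAffineOpen_mem_and_subset (x := x) (U := (⊤ : X.Opens)) trivial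
      exact Set.mem_iUnion.2 ⟨⟨V, hV⟩, hxV⟩)
  refine ⟨∑ V ∈ S, c V, Scheme.IdealSheafData.ext_of_iSup_eq_top (fun V : S => V.1)
    (Opens.ext (Set.eq_univ_of_forall fun x => ?_)) fun V => ?_⟩
  · obtain ⟨V, hV, hxV⟩ : ∃ V ∈ S, x ∈ V.1 := by simpa using hS (Set.mem_univ x)
    exact Opens.mem_iSup.2 ⟨⟨V, hV⟩, hxV⟩
  · simp only [Scheme.IdealSheafData.ideal_inf, Scheme.IdealSheafData.ideal_pow, Pi.inf_apply, Pi.pow_apply,
      Scheme.IdealSheafData.ideal_bot, Pi.bot_apply]
    exact hc V.1 _ ((Finset.single_le_sum (fun _ _ => Nat.zero_le _) V.2).trans (Nat.le_succ _))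

variable {L : X.Modules}

/-- Off the zero scheme, the section is a generator, so it is injective on schematically dominated schemes. -/
theorem mono_pullSec [IsNoetherian X] (hL : PicF.IsInvertible L) (s : Coh.structureModule X ⟶ L) :
    Mono (AbelMap.pullSec (CohB1.genLocus L s).ι.ker.subschemeι s) := by
  let U := CohB1.genLocus L s
  let a := U.ι.ker.subschemeι
  let g : (U : Scheme.{u}) ⟶ U.ι.ker.subscheme := U.ι.toImage
  haveI : QuasiCompact U.ι := inferInstance
  let s' := AbelMap.pullSec a s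
  let U' := CohB1.genLocus ((Scheme.Modules.pullback a).obj L) s'
  have hU' : ∀ z, g z ∈ U' := fun z => by
    by_contra hz
    have h1 : g z ∈ ((PicF2.zeroScheme ((Scheme.Modules.pullback a).obj L) s').support : Set _) := by
      rw [NegTwist.coe_support_zeroScheme (PicLoc.isInvertible_pullback a hL)]
      exact hz
    rw [AbelMap.zeroScheme_pullSec a hL, Scheme.IdealSheafData.support_comap, TopologicalSpace.Closeds.coe_preimage,
      Set.mem_preimage, NegTwist.coe_support_zeroScheme hL] at h1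
    refine h1 ?_
    rw [← Scheme.Hom.comp_apply, show g ≫ a = U.ι from U.ι.toImage_imageι]
    exact z.2
  refine (Groth.Agent.QC.mono_iff_app_injective _).2 fun W => ?_
  rw [injective_iff_map_eq_zero]
  intro t ht
  let t' : Γ(U.ι.ker.subscheme, W) := t
  let V := W ⊓ U'
  have hV : g ⁻¹ᵁ W ≤ g ⁻¹ᵁ V := fun z hz => ⟨hz, hU' z⟩
  have h0 : U.ι.ker.subscheme.presheaf.map (homOfLE (inf_le_left : V ≤ W)).op t' = 0 := by
    refine ((TMul.isGen_genLocus s').res (inf_le_right : V ≤ U') V le_rfl).1 ?_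
    simp only [TMul.res_val, zero_smul]
    show (U.ι.ker.subscheme.presheaf.map (homOfLE (inf_le_left : V ≤ W)).op t') • TMul.val s' V = 0
    rw [← TMul.app_eq_smul]
    show s'.app V (Groth.Agent.QC.res (Coh.structureModule _) (inf_le_left : V ≤ W) t) = 0
    rw [← Groth.Agent.QC.app_res, ht, map_zero]
  have hgt : (g.app W).hom t' = 0 := by
    refine TopCat.Presheaf.section_ext (F := (U : Scheme.{u}).sheaf) _ _ _ fun z hz => ?_
    have hzV : z ∈ g ⁻¹ᵁ V := ⟨hz, hU' z⟩
    rw [map_zero]
    refine (Scheme.Hom.germ_stalkMap_apply g W z hz t').symm.trans ?_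
    refine (congrArg (g.stalkMap z).hom ?_).trans (map_zero _)
    refine (U.ι.ker.subscheme.presheaf.germ_res_apply (homOfLE (inf_le_left : V ≤ W)) (g z) hzV t').symm.trans ?_
    exact (congrArg (U.ι.ker.subscheme.presheaf.germ V (g z) hzV).hom h0).trans (map_zero _)
  refine TopCat.Presheaf.app_injective_of_stalkFunctor_map_injective (F := U.ι.ker.subscheme.sheaf) g.c W
    (fun x _ => U.ι.stalkFunctor_toImage_injective x) ?_
  show (g.app W).hom t' = (g.app W).hom 0
  rw [hgt, map_zero]

/-- Covers of the zero scheme of a section of an ample invertible module extend to a neighbourhood. -/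
theorem exists_extension (k : Type u) [Field k] [X.Over (Spec (CommRingCat.of k))]
    [IsProper (X ↘ Spec (CommRingCat.of k))] (hamp : CohB1.IsAmple L) (s : Coh.structureModule X ⟶ L)
    (hd : ∀ x : X, x ∉ ((PicF2.zeroScheme L s).support : Set X) → (2 : WithBot ℕ∞) <
      (LocCoh.depth (X.presheaf.stalk x) (X.presheaf.stalk x) : WithBot ℕ∞) +
        topologicalKrullDim ↥(closure ({x} : Set X)))
    (R : FEt.Cat (PicF2.zeroScheme L s).subscheme) :
    ∃ (V : X.Opens) (R' : FEt.Cat (V : Scheme.{u})), ((PicF2.zeroScheme L s).support : Set X) ⊆ (V : Set X) ∧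
      ∀ i : (PicF2.zeroScheme L s).subscheme ⟶ (V : Scheme.{u}), i ≫ V.ι = (PicF2.zeroScheme L s).subschemeι →
        Nonempty ((FEt.restrict i).obj R' ≅ R) := by
  haveI : IsLocallyNoetherian X := LocallyOfFiniteType.isLocallyNoetherian (X ↘ Spec (CommRingCat.of k))
  haveI : CompactSpace X := QuasiCompact.compactSpace_of_compactSpace (X ↘ Spec (CommRingCat.of k))
  haveI : IsNoetherian X := ⟨⟩
  let J := PicF2.zeroScheme L s
  let U := CohB1.genLocus L s
  have hUJ : (J.support : Set X) = (U : Set X)ᶜ := NegTwist.coe_support_zeroScheme hamp.1 s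
  haveI : QuasiCompact U.ι := inferInstance
  let T := U.ι.ker
  obtain ⟨c, hc⟩ := exists_pow_inf J U (by rw [hUJ, compl_compl])
  let F := J ^ (c + 1)
  let a := T.subschemeι
  -- the scheme without torsion
  letI : T.subscheme.Over (Spec (CommRingCat.of k)) := ⟨a ≫ (X ↘ Spec (CommRingCat.of k))⟩
  haveI : IsProper (T.subscheme ↘ Spec (CommRingCat.of k)) :=
    inferInstanceAs (IsProper (a ≫ (X ↘ Spec (CommRingCat.of k))))
  haveI : IsLocallyNoetherian T.subscheme :=
    LocallyOfFiniteType.isLocallyNoetherian (a ≫ (X ↘ Spec (CommRingCat.of k)))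
  let s' := AbelMap.pullSec a s
  have hJ' : PicF2.zeroScheme ((Scheme.Modules.pullback a).obj L) s' = J.comap a :=
    AbelMap.zeroScheme_pullSec a hamp.1 s
  have hsupp : ((J.comap a).support : Set T.subscheme) = a ⁻¹' (J.support : Set X) := by
    rw [Scheme.IdealSheafData.support_comap]; rfl
  have hd' : ∀ x : T.subscheme, x ∉ ((PicF2.zeroScheme ((Scheme.Modules.pullback a).obj L) s').support : Set _) →
      (2 : WithBot ℕ∞) < (LocCoh.depth (T.subscheme.presheaf.stalk x) (T.subscheme.presheaf.stalk x) : WithBot ℕ∞) +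
        topologicalKrullDim ↥(closure ({x} : Set T.subscheme)) := fun x hx => by
    rw [hJ', hsupp] at hx
    have hxU : a x ∈ U := by
      by_contra hc'
      exact hx (show a x ∈ (J.support : Set X) by rw [hUJ]; exact hc')
    let g : (U : Scheme.{u}) ⟶ T.subscheme := U.ι.toImage
    have hga : g ≫ a = U.ι := U.ι.toImage_imageι
    obtain ⟨z, hz⟩ : ∃ z, g z = x := ⟨⟨a x, hxU⟩, a.isClosedEmbedding.injective
      ((Scheme.Hom.comp_apply g a _).symm.trans (by rw [hga]; rfl))⟩
    have hbij : Function.Bijective (a.stalkMap x).hom := by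
      refine ⟨?_, a.stalkMap_surjective x⟩
      subst hz
      have h1 : Function.Injective ((g ≫ a).stalkMap z).hom := by
        haveI : IsOpenImmersion (g ≫ a) := by rw [hga]; infer_instance
        exact (ConcreteCategory.bijective_of_isIso ((g ≫ a).stalkMap z)).1
      rw [Scheme.Hom.stalkMap_comp, CommRingCat.hom_comp, RingHom.coe_comp] at h1
      exact h1.of_comp
    rw [← LefDepth.dim_closure_image a.isClosedEmbedding x,
      Purity.depth_eq_of_ringEquiv (RingEquiv.ofBijective _ hbij)]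
    refine hd (a x) ?_
    show a x ∉ (J.support : Set X)
    rw [hUJ]
    exact fun h => h hxU
  haveI := mono_pullSec hamp.1 s
  have hleff := leffCond k (TMul.isAmple_pullback_of_isAffineHom a hamp) s' hd'
  rw [hJ'] at hleff
  -- the square
  let i := Scheme.IdealSheafData.inclusion (le_sup_left : T ≤ T ⊔ F)
  let j := Scheme.IdealSheafData.inclusion (le_sup_right : F ≤ T ⊔ F)
  have hFJ : F ≤ J := fun W => by
    simp only [F, Scheme.IdealSheafData.ideal_pow, Pi.pow_apply]
    exact Ideal.pow_le_self (Nat.succ_ne_zero c)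
  have hTFJ : T ⊔ F ≤ T ⊔ J := sup_le_sup_left hFJ T
  let sY := Scheme.IdealSheafData.inclusion hFJ
  let sZ := Scheme.IdealSheafData.inclusion hTFJ
  have hsuppF : (F.support : Set X) = (J.support : Set X) := by
    rw [Scheme.IdealSheafData.support_pow _ _ (Nat.succ_ne_zero c)]
  have hsurj : ∀ {A B : X.IdealSheafData} (h : A ≤ B), (A.support : Set X) = (B.support : Set X) →
      Surjective (Scheme.IdealSheafData.inclusion h) := fun {A B} h e => ⟨fun z => by
    have hz : A.subschemeι z ∈ Set.range B.subschemeι := by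
      rw [Scheme.IdealSheafData.range_subschemeι, ← e, ← Scheme.IdealSheafData.range_subschemeι]
      exact ⟨z, rfl⟩
    obtain ⟨w, hw⟩ := hz
    refine ⟨w, A.subschemeι.isClosedEmbedding.injective ?_⟩
    rw [← Scheme.Hom.comp_apply, Scheme.IdealSheafData.inclusion_subschemeι, hw]⟩
  haveI : Surjective sY := hsurj hFJ hsuppF
  haveI : Surjective sZ := hsurj hTFJ (by
    rw [Scheme.IdealSheafData.support_sup, Scheme.IdealSheafData.support_sup, TopologicalSpace.Closeds.coe_inf,
      TopologicalSpace.Closeds.coe_inf, hsuppF])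
  let zJ := Scheme.IdealSheafData.inclusion (le_sup_right : J ≤ T ⊔ J)
  let z' : (T ⊔ J).subscheme ⟶ (J.comap a).subscheme :=
    pullback.lift (sZ ≫ i) zJ (by
      rw [Category.assoc, Scheme.IdealSheafData.inclusion_subschemeι, Scheme.IdealSheafData.inclusion_subschemeι,
        Scheme.IdealSheafData.inclusion_subschemeι]) ≫ (J.comapIso a).inv
  let z'' : (J.comap a).subscheme ⟶ J.subscheme := (J.comapIso a).hom ≫ pullback.snd a J.subschemeι
  have hz' : z' ≫ (J.comap a).subschemeι = sZ ≫ i := by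
    simp only [z', Category.assoc, Scheme.IdealSheafData.comapIso_inv_subschemeι]
    exact pullback.lift_fst _ _ _
  have hz'' : z' ≫ z'' = zJ := by
    simp only [z', z'', Category.assoc, Iso.inv_hom_id_assoc]
    exact pullback.lift_snd _ _ _
  obtain ⟨O', W, hO', hW⟩ :=
    LefEssSurj.exists_extension (J.comap a) hleff ((FEt.restrict z'').obj R)
  let iJ : (J.comap a).subscheme ⟶ (O' : Scheme.{u}) := IsOpenImmersion.lift O'.ι (J.comap a).subschemeι (by
    rw [Scheme.Opens.range_ι, Scheme.IdealSheafData.range_subschemeι]; exact hO')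
  have hiJ : iJ ≫ O'.ι = (J.comap a).subschemeι := IsOpenImmersion.lift_fac _ _ _
  obtain ⟨eW⟩ := hW iJ hiJ
  let Oy := (sY ≫ F.subschemeι) ⁻¹ᵁ (⊤ : X.Opens)
  let Oz := (sZ ≫ i) ⁻¹ᵁ O'
  let mX : (Oz : Scheme.{u}) ⟶ (O' : Scheme.{u}) := Oz.ι ≫ z' ≫ iJ
  let mY : (Oz : Scheme.{u}) ⟶ (Oy : Scheme.{u}) := IsOpenImmersion.lift Oy.ι (Oz.ι ≫ zJ) (by
    rw [Scheme.Opens.range_ι]; exact fun _ _ => trivial)
  have hmYι : mY ≫ Oy.ι = Oz.ι ≫ z' ≫ z'' := by rw [hz'']; exact IsOpenImmersion.lift_fac _ _ _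
  obtain ⟨V, R', u, -, hu, ⟨ψ⟩⟩ := LefEssSurj.exists_glue_nhd (isPinch_sup T F hc) sY sZ ⊤ O' (fun _ _ => trivial)
    (fun x y hxy _ => hO' (by
      show x ∈ ((J.comap a).support : Set T.subscheme)
      rw [hsupp, Set.mem_preimage, show a x = F.subschemeι (sY y) from hxy, ← Scheme.Hom.comp_apply,
        Scheme.IdealSheafData.inclusion_subschemeι, ← Scheme.IdealSheafData.range_subschemeι]
      exact ⟨y, rfl⟩))
    ((FEt.restrict Oy.ι).obj R) W mX (by simp only [mX, Category.assoc, hiJ, hz']; rfl)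
    mY (by
      rw [reassoc_of% hmYι, reassoc_of% hz'', ← cancel_mono F.subschemeι]
      simp only [Category.assoc, sY, sZ, j, zJ, Scheme.IdealSheafData.inclusion_subschemeι]
      rfl)
    ((LefEssSurj.restrictComp (Oz.ι ≫ z') iJ mX (Category.assoc _ _ _)).app W ≪≫
      (FEt.restrict (Oz.ι ≫ z')).mapIso eW ≪≫
      LefEssSurj.restrictSq (Oz.ι ≫ z') z'' mY Oy.ι (by rw [hmYι, Category.assoc]) R)
  have hu' : u ≫ V.ι = Oy.ι ≫ J.subschemeι := by
    rw [hu]; exact congrArg (Oy.ι ≫ ·) (Scheme.IdealSheafData.inclusion_subschemeι _)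
  refine ⟨V, R', fun x hx => ?_, fun i₀ hi₀ => ?_⟩
  · obtain ⟨y, rfl⟩ : x ∈ Set.range J.subschemeι := by
      rw [Scheme.IdealSheafData.range_subschemeι]; exact hx
    have h1 : (Oy.ι ≫ J.subschemeι) (⟨y, trivial⟩ : Oy) ∈ (V : Set X) := by
      rw [← hu', Scheme.Hom.comp_apply]; exact (u _).2
    exact h1
  · haveI : IsIso Oy.ι := by
      rw [show Oy = ⊤ from rfl]
      exact inferInstanceAs (IsIso J.subscheme.topIso.hom)
    haveI := LefEssSurj.restrict_isEquivalence_of_isIso Oy.ι
    refine ⟨(FEt.restrict Oy.ι).preimageIso (((LefEssSurj.restrictComp Oy.ι i₀ u ?_).app R').symm ≪≫ ψ)⟩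
    rw [← cancel_mono V.ι, Category.assoc, hi₀, hu']

end

end Groth.Agent.LeffKill
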