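import Groth.Agent.LeffKill.Lift

/-!
Algebraization along an ample divisor from the killing of first cohomology by powers of the ideal.
-/

set_option autoImplicit false
set_option maxHeartbeats 1000000
set_option linter.style.haveILetI false
set_option linter.unusedSectionVars false
set_option backward.isDefEq.respectTransparency false
set_option backward.isDefEq.respectTransparency.types false
universe u

namespace Groth.Agent.LeffKill

open CategoryTheory CategoryTheory.Limits AlgebraicGeometry TopologicalSpace Opposite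
open Groth.Agent.LeffAmple
open Groth.Agent.Nakai (cl_tensor cl_pow cl_one iso_of_cl)
open Groth.Agent.CohFinite (tmap hhMap hhEquiv)
open FormAlg (sysObj sysTn)

attribute [local instance] Groth.Agent.Nakai.clMonoid

noncomputable section

variable {X : Scheme.{u}} (A : Type u) [CommRing A] [IsNoetherianRing A] [X.Over (Spec (CommRingCat.of A))]
  [IsProper (X ↘ Spec (CommRingCat.of A))] {I : X.IdealSheafData} {L : X.Modules}
  (𝔐 : FSch.ModSys (FSch.completionAlong X I))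
  (hL : ClSub.IsInverseOf L (ClSub.idealMod I)) (hamp : CohB1.IsAmple L)
  (h𝔐 : ∀ n, FlatMod.IsFinLocFree (𝔐.F n))
  (hkill : ∃ c, KillTw I 1 c (sysObj 𝔐 c))

include A hL hamp h𝔐 hkill in
/-- Eventually, all global sections of the twists of the zeroth level lift compatibly. -/
theorem exists_lifting :
    ∃ r₀ : ℕ, ∀ r, r₀ ≤ r → ∀ v : Γ(CohB1.tensorMod (sysObj 𝔐 0) (CohB1.tensorPow L r), ⊤),
      ∃ σ : ∀ n, Γ(CohB1.tensorMod (sysObj 𝔐 n) (CohB1.tensorPow L r), ⊤),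
        (∀ n, (tmap (sysTn 𝔐 n) (CohB1.tensorPow L r)).app ⊤ (σ (n + 1)) = σ n) ∧ σ 0 = v := by
  have hI := isEffCartier_of_inverse hL
  obtain ⟨c, m₀, hc⟩ := hkill
  obtain ⟨n₀, K, hK⟩ := exists_chain_injective A 𝔐 hL hamp h𝔐 hI (c + m₀)
  refine ⟨n₀ + (K + 1), fun r hr v => ?_⟩
  obtain ⟨k, hk, rfl⟩ : ∃ k, K ≤ k ∧ r = n₀ + (k + 1) := ⟨r - n₀ - 1, by omega, by omega⟩
  obtain ⟨σ, hσ, h0⟩ := exists_compatible_gap
    (fun a b h u => (tmap (tr 𝔐 (a := a) (b := b) h) (CohB1.tensorPow L (n₀ + (k + 1)))).app ⊤ u)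
    (fun a b c h h' u => tmap_tr_app 𝔐 _ h h' u) c (c + m₀ + (n₀ + (k + 1))) (hK k hk)
    (fun n hn u => exists_step 𝔐 hL h𝔐 c m₀ hc _ n hn u) v
  refine ⟨σ, fun n => ?_, h0⟩
  rw [← tr_succ 𝔐 n]
  exact hσ n

include A hL hamp h𝔐 hkill in
/-- The system is generated by compatible twisted sections. -/
theorem exists_generators :
    ∃ (r l : ℕ) (φ : ∀ n, CohB1.tensorMod (FlatMod.freeMod X l) (CohB1.tensorPow (ClSub.idealMod I) r) ⟶ sysObj 𝔐 n),
      (∀ n, φ (n + 1) ≫ sysTn 𝔐 n = φ n) ∧ ∀ n, Epi (φ n) := by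
  haveI : IsLocallyNoetherian X := LocallyOfFiniteType.isLocallyNoetherian (X ↘ Spec (CommRingCat.of A))
  have hI := isEffCartier_of_inverse hL
  obtain ⟨r₀, hr₀⟩ := exists_lifting A 𝔐 hL hamp h𝔐 hkill
  haveI := (isCoh_sysObj 𝔐 h𝔐 0).1
  obtain ⟨r₁, hr₁⟩ := TMul.eventually_isGloballyGenerated hamp (F := sysObj 𝔐 0) (isCoh_sysObj 𝔐 h𝔐 0).2
  obtain ⟨r, hr, hr'⟩ : ∃ r, r₀ ≤ r ∧ r₁ ≤ r := ⟨max r₀ r₁, le_max_left _ _, le_max_right _ _⟩
  haveI : Module.Finite A (Coh.HH X (CohB1.tensorMod (sysObj 𝔐 0) (CohB1.tensorPow L r)) 0) :=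
    CohFinite.finite_proper A X _ (CohFinite.isCoh_tensor (isCoh_sysObj 𝔐 h𝔐 0) (TMul.isInvertible_tensorPow hamp.1 r)) 0
  obtain ⟨l, s, hs⟩ := exists_finite_gen A (hr₁ r hr')
  choose σ hσ hσ0 using fun j => hr₀ r hr (s j)
  obtain ⟨θ⟩ := exists_inverse_pow hL r
  have hP' : PicF.IsInvertible (CohB1.tensorPow (ClSub.idealMod I) r) :=
    TMul.isInvertible_tensorPow ((Groth.Agent.S8914.result I).2 hI) r
  have hp : ∀ n, (Limits.Sigma.desc fun j => TMul.homOf (σ j (n + 1))) ≫ tmap (sysTn 𝔐 n) (CohB1.tensorPow L r) =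
      Limits.Sigma.desc fun j => TMul.homOf (σ j n) := fun n => Limits.Sigma.hom_ext _ _ fun j => by
    rw [Limits.Sigma.ι_desc_assoc, Limits.Sigma.ι_desc, ← ProjMor.homOf_app, hσ]
  have h00 : (Limits.Sigma.desc fun j => TMul.homOf (σ j 0)) = Limits.Sigma.desc fun j => TMul.homOf (s j) :=
    congrArg Limits.Sigma.desc (funext fun j => by rw [hσ0])
  refine ⟨r, l, fun n => tmap (Limits.Sigma.desc fun j => TMul.homOf (σ j n)) _ ≫ (SerrePn.untw θ _).hom,
    fun n => untw_compat θ _ _ _ (hp n), epi_levels 𝔐 hI _ (fun n => untw_compat θ _ _ _ (hp n)) ?_⟩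
  haveI := hs
  have hS : (ShortComplex.mk (kernel.ι (Limits.Sigma.desc fun j => TMul.homOf (s j)))
      (Limits.Sigma.desc fun j => TMul.homOf (s j)) (kernel.condition _)).ShortExact :=
    { exact := ShortComplex.exact_of_f_is_kernel _ (kernelIsKernel _) }
  haveI := (CohFinite.shortExact_tmap hP' hS).epi_g
  rw [h00]
  exact epi_comp _ _

end

noncomputable section

variable {X : Scheme.{u}} {I : X.IdealSheafData} (A : Type u) [CommRing A] [IsNoetherianRing A] [X.Over (Spec (CommRingCat.of A))]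
  [IsProper (X ↘ Spec (CommRingCat.of A))] {L : X.Modules}

include A in
/-- Levelwise locally free systems along an ample divisor algebraize. -/
theorem exists_algebraization (hL : ClSub.IsInverseOf L (ClSub.idealMod I)) (hamp : CohB1.IsAmple L)
    (hLef : ∀ P : X.Modules, PicF.IsInvertible P → Lef.HomToFormalBijective I P)
    (hvan : ∀ 𝔎 : FSch.ModSys (FSch.completionAlong X I), (∀ n, FlatMod.IsFinLocFree (𝔎.F n)) →
      ∃ c, KillTw I 1 c (sysObj 𝔎 c))
    (𝔐 : FSch.ModSys (FSch.completionAlong X I)) (h𝔐 : LefX.LevelwiseFinLocFree 𝔐) :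
    ∃ (U : X.Opens) (E : (U : Scheme.{u}).Modules), (I.support : Set X) ⊆ (U : Set X) ∧ FlatMod.IsFinLocFree E ∧
      Nonempty (FSch.completionMod I ((Scheme.Modules.pushforward U.ι).obj E) ≅ 𝔐) := by
  haveI : IsLocallyNoetherian X := LocallyOfFiniteType.isLocallyNoetherian (X ↘ Spec (CommRingCat.of A))
  have hI := isEffCartier_of_inverse hL
  have hi := (Groth.Agent.S8914.result I).2 hI
  have hfree : ∀ r l, FlatMod.IsFinLocFree (CohB1.tensorMod (FlatMod.freeMod X l) (CohB1.tensorPow (ClSub.idealMod I) r)) :=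
    fun r l => ResDesc.isFinLocFree_tensorMod (DCohLocus.isFinLocFree_free X l)
      (ResDesc.isFinLocFree_of_isInvertible (TMul.isInvertible_tensorPow hi r))
  obtain ⟨r, l, φ, hφ, hepi⟩ := exists_generators A 𝔐 hL hamp h𝔐 (hvan _ h𝔐)
  obtain ⟨D', d, hD', ⟨e⟩⟩ := exists_cokernel 𝔐 h𝔐 (hfree r l) φ hφ hepi fun 𝔎 h𝔎 => by
    obtain ⟨r', l', φ', hφ', hepi'⟩ := exists_generators A 𝔎 hL hamp h𝔎 (hvan _ h𝔎)
    refine ⟨_, φ', ⟨LocFree.isQCoh_of_isFinLocFree (hfree r' l'), LocFree.isFT_of_isFinLocFree (hfree r' l')⟩, ?_,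
      hφ', hepi'⟩
    obtain ⟨θ'⟩ := exists_inverse_pow hL r'
    obtain ⟨θ₀⟩ := exists_inverse_pow hL r
    obtain ⟨e₁⟩ := exists_twistFree (TMul.commIso _ _ ≪≫ θ') l'
    obtain ⟨e₂⟩ := exists_twistFree (TMul.commIso _ _ ≪≫ θ₀) l
    refine lifts_of_iso_left I e₁.symm (lifts_sigma I _ fun _ => lifts_of_iso_right I
      (biproduct.isoCoproduct _ ≪≫ e₂.symm) (lifts_biproduct I _ fun _ => ?_))
    obtain ⟨θ⟩ := exists_inverse_pow hL r
    exact fun y hy => exists_lift_completion (TMul.isInvertible_tensorPow hamp.1 r) (TMul.commIso _ _ ≪≫ θ)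
      (hLef _ (TMul.isInvertible_tensorMod (TMul.isInvertible_tensorPow hi r') (TMul.isInvertible_tensorPow hamp.1 r))) y hy
  exact exists_nhd_of_coh hI 𝔐 h𝔐 (Groth.Agent.QC.isCoh_cokernel hD'.1
    ⟨LocFree.isQCoh_of_isFinLocFree (hfree r l), LocFree.isFT_of_isFinLocFree (hfree r l)⟩ d) e

end

end Groth.Agent.LeffKill
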