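import Groth.Agent.LeffKill.Structure
import Groth.Agent.LefDepth.Main
import Groth.Agent.LefDepth.Lef
import Groth.Agent.LefZero.Inverse
import Groth.Agent.ClSubLib.EssSurj

/-!
The effective Lefschetz condition along the zero scheme of a regular section of an ample invertible module, from
depth plus dimension bigger than two off the zero scheme.
-/

set_option autoImplicit false
set_option maxHeartbeats 1000000
set_option linter.style.haveILetI false
set_option linter.unusedSectionVars false
set_option backward.isDefEq.respectTransparency false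
set_option backward.isDefEq.respectTransparency.types false
universe u

namespace Groth.Agent.LeffKill

open CategoryTheory CategoryTheory.Limits AlgebraicGeometry TopologicalSpace Opposite
open Groth.Agent.K0Dev (St)
open Groth.Agent.CycK0 (twist theta)
open Groth.Agent.Nakai (cl_tensor cl_pow cl_one iso_of_cl)
open Groth.Agent.CohFinite (tmap)
open Groth.Agent.W7Hull (st)
open Groth.Agent.LeffAmple (exists_eqn)

attribute [local instance] Groth.Agent.Nakai.clMonoid

noncomputable section

variable {X : Scheme.{u}} {I : X.IdealSheafData}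

/-- Multiplication by a power of the ideal vanishes on twists of modules it kills. -/
theorem nuA_twist_eq_zero (hI : BlowUp.IsEffCartierIdeal I) (k : ℕ) {Q : X.Modules} [Q.IsQuasicoherent]
    (hQ : ClSub.KilledByIdeal (I ^ (k + 1)) Q) {R : X.Modules} (hR : PicF.IsInvertible R) :
    nuA I (k + 1) (CohB1.tensorMod Q R) = 0 := by
  refine FlatFunLib.eq_zero_of_stalks _ fun x => ?_
  obtain ⟨ε⟩ := exists_eqn hI x
  obtain ⟨θ, c, -, -, hnu⟩ := exists_itTheta hI ε (k + 1)
  have hQx : ∀ v : Q.presheaf.stalk x, ε.γ ^ (k + 1) • v = 0 := fun v => by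
    have hk : ClSub.KilledByIdeal (I ^ (k + 1)).subschemeι.ker Q := by
      rw [Scheme.IdealSheafData.ker_subschemeι]; exact hQ
    by_cases hx : x ∈ Set.range (I ^ (k + 1)).subschemeι
    · obtain ⟨z, rfl⟩ := hx
      refine ClSubLib.smul_stalk_eq_zero (I ^ (k + 1)).subschemeι Q hk z _ ?_ v
      exact RingHom.mem_ker.1 ((ε.ker_stalkMap k z).ge (Ideal.mem_span_singleton_self _))
    · haveI := ClSubLib.subsingleton_stalk (I ^ (k + 1)).subschemeι Q hk hx
      exact @Subsingleton.elim ↑(Q.presheaf.stalk x) this _ _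
  obtain ⟨A, e, hx, he⟩ := TMul.exists_isGen hR x
  refine ModuleCat.hom_ext (LinearMap.ext fun w => ?_)
  obtain ⟨v, rfl⟩ := (θ (CohB1.tensorMod Q R)).surjective w
  obtain ⟨v', rfl⟩ := (theta he hx Q).surjective v
  refine (hnu _ _).trans ?_
  rw [mul_smul, show ε.γ ^ (k + 1) • theta he hx Q v' = theta he hx Q (ε.γ ^ (k + 1) • v') from
    (LinearEquiv.map_smul _ _ _).symm, hQx, map_zero, smul_zero]
  rfl

variable (k : Type u) [Field k] [X.Over (Spec (CommRingCat.of k))]
  [IsProper (X ↘ Spec (CommRingCat.of k))] {L : X.Modules}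

include k in
/-- Below the bound on depth plus dimension, a power of the ideal kills negative twists of the structure module. -/
theorem exists_killTw_structure (hamp : CohB1.IsAmple L) (σ : Coh.structureModule X ⟶ L)
    (hL : ClSub.IsInverseOf L (ClSub.idealMod (PicF2.zeroScheme L σ))) (n : ℕ)
    (hd : ∀ x : X, x ∉ ((PicF2.zeroScheme L σ).support : Set X) → (n : WithBot ℕ∞) <
      (LocCoh.depth (X.presheaf.stalk x) (X.presheaf.stalk x) : WithBot ℕ∞) +
        topologicalKrullDim ↥(closure ({x} : Set X)))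
    (i : ℕ) (hi : i ≤ n) : ∃ c, KillTw (PicF2.zeroScheme L σ) i c (Coh.structureModule X) := by
  haveI : IsLocallyNoetherian X := LocallyOfFiniteType.isLocallyNoetherian (X ↘ Spec (CommRingCat.of k))
  haveI : CompactSpace X := QuasiCompact.compactSpace_of_compactSpace (X ↘ Spec (CommRingCat.of k))
  haveI : IsNoetherian X := ⟨⟩
  obtain ⟨N, d, r, hN, hd0, hr, hrc, ⟨τ₁⟩, W, hW, hWU⟩ :=
    LefDepth.exists_closedImmersion_chart (X ↘ Spec (CommRingCat.of k)) hamp σ (n + 1)
  haveI := hrc
  let J := PicF2.zeroScheme L σ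
  have hJ := LeffAmple.isEffCartier_of_inverse hL
  let U := CohB1.genLocus L σ
  have hUI : (J.support : Set X) = (U : Set X)ᶜ := NegTwist.coe_support_zeroScheme hamp.1 σ
  have hO : Coh.IsCoh (Coh.structureModule X) := RefStalk.isCoh_structureModule
  have hpd : ∀ y ∈ W, SerreReg.PdLE ((CohB1.ProjSpace N k).presheaf.stalk y)
      (((Scheme.Modules.pushforward r).obj (Coh.structureModule X)).presheaf.stalk y) (N - (n + 1)) := fun y hy => by
    by_cases hy' : y ∈ Set.range r
    · obtain ⟨x, rfl⟩ := hy'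
      have hxU : x ∈ U := hWU.le hy
      refine LefDepth.pdLE_push_depth N k r (Coh.structureModule X) hO x (n := n) (by omega) ?_
      have hx : x ∉ (J.support : Set X) := by rw [hUI]; exact fun hc => hc hxU
      rw [DepthExtend.depth_structureModule x]
      exact hd x hx
    · haveI : Subsingleton ↑(((Scheme.Modules.pushforward r).obj (Coh.structureModule X)).presheaf.stalk y) :=
        KFlat.subsingleton_stalk_push r _ hy'
      haveI := Module.Free.of_subsingleton ((CohB1.ProjSpace N k).presheaf.stalk y)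
        (((Scheme.Modules.pushforward r).obj (Coh.structureModule X)).presheaf.stalk y)
      exact SerreReg.pdLE_mono (Nat.zero_le _) ((SerreReg.pdLE_zero_iff _).2 Module.Projective.of_free)
  obtain ⟨E', e, he, hE', hbij', m₀, hm₀⟩ :=
    LefDepth.exists_sub_vanish_closed N k r hr W hW (Coh.structureModule X) hO (N - (n + 1)) hpd i (by omega)
  haveI := he
  have hQc : Coh.IsCoh (cokernel e) := Groth.Agent.QC.isCoh_cokernel hE'.1 hO e
  haveI : (cokernel e).IsQuasicoherent := hQc.1
  obtain ⟨k₁, hk₁⟩ := LefDepth.exists_killed J hQc fun x hx => by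
    have hxU : x ∈ U := by rw [hUI] at hx; exact not_not.1 hx
    exact not_not.1 (Devissage.notMem_support_of_surjective (ShortComplex.mk e (cokernel.π e) (cokernel.condition e))
      { exact := ShortComplex.exact_cokernel e, mono_f := inferInstance, epi_g := inferInstance } x
      (hbij' x (hWU.ge hxU)).2)
  have hJi : PicF.IsInvertible (ClSub.idealMod J) := (Groth.Agent.S8914.result J).2 hJ
  let R : ℕ → X.Modules := fun m => (Scheme.Modules.pullback r).obj (LefRel.O N k (-(m : ℤ)))
  have hRcl : ∀ m, PicF.cl (R m) = PicF.cl (ClSub.idealMod J) ^ (d * m) := fun m => by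
    let c : ℤ → _ := fun a => PicF.cl ((Scheme.Modules.pullback r).obj (LefRel.O N k a))
    have hc : ∀ a b : ℤ, c a * c b = c (a + b) := fun a b => by
      obtain ⟨θ⟩ := LefRel.exists_theta N k a b _ rfl
      obtain ⟨π⟩ := TMul.nonempty_pullTensorIso r (LefRel.O N k a) (LefRel.O N k b)
      rw [← cl_tensor]
      exact (PicGrp.cl_eq_cl_iff _ _).2 ⟨π ≪≫ (Scheme.Modules.pullback r).mapIso θ⟩
    have hc0 : c 0 = 1 := by
      obtain ⟨θ⟩ := GrT.nonempty_twist_zero_iso (𝒜 := CohB1.polyGrading N k)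
      rw [← cl_one]
      exact (PicGrp.cl_eq_cl_iff _ _).2 ⟨(Scheme.Modules.pullback r).mapIso θ ≪≫ DerPerf.pullUnitIso r⟩
    have hc1 : c 1 = PicF.cl L ^ d := by
      rw [← cl_pow]; exact (PicGrp.cl_eq_cl_iff _ _).2 ⟨τ₁⟩
    have hcq : ∀ q : ℕ, c q = PicF.cl L ^ (d * q) := by
      intro q
      induction q with
      | zero => simpa using hc0
      | succ q ih => rw [Nat.cast_succ, ← hc, ih, hc1, ← pow_add]; rfl
    have h3 : c (m : ℤ) * c (-(m : ℤ)) = 1 := by rw [hc, add_neg_cancel, hc0]
    rw [hcq] at h3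
    have h5 : PicF.cl (ClSub.idealMod J) ^ (d * m) * PicF.cl L ^ (d * m) = 1 := by
      rw [← mul_pow, mul_comm (PicF.cl (ClSub.idealMod J)), Groth.Agent.Nakai.cl_inv hL, one_pow]
    exact (left_inv_eq_right_inv h5 h3).symm
  have hkill : ∀ m, m₀ ≤ m → ∀ H : X.Modules, PicF.cl H = PicF.cl (ClSub.idealMod J) ^ (d * m) →
      Killed J i (k₁ + 1) H := fun m hm H hH => by
    have hR : PicF.IsInvertible (R m) := by
      obtain ⟨ψ⟩ := iso_of_cl ((cl_pow (ClSub.idealMod J) (d * m)).trans (hRcl m).symm)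
      exact ParaFLib.isInvertible_of_iso ψ (TMul.isInvertible_tensorPow hJi _)
    obtain ⟨ψ⟩ : Nonempty (CohB1.tensorMod (Coh.structureModule X) (R m) ≅ H) :=
      iso_of_cl (by rw [cl_tensor, cl_one, one_mul, hH, hRcl])
    refine killed_of_iso ψ fun x => ?_
    have hS : (ShortComplex.mk e (cokernel.π e) (cokernel.condition e)).ShortExact :=
      { exact := ShortComplex.exact_of_g_is_cokernel _ (cokernelIsCokernel e) }
    have hT := CohFinite.shortExact_tmap hR hS
    haveI := hT.mono_f
    let g := hT.exact.lift (nuA J (k₁ + 1) (CohB1.tensorMod (Coh.structureModule X) (R m))) (by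
      show nuA J (k₁ + 1) _ ≫ tmap (cokernel.π e) (R m) = 0
      rw [← nuA_natural, nuA_twist_eq_zero hJ k₁ (hk₁ (k₁ + 1) (Nat.le_succ _)) hR, comp_zero])
    rw [← hT.exact.lift_f (nuA J (k₁ + 1) (CohB1.tensorMod (Coh.structureModule X) (R m))) (by
      show nuA J (k₁ + 1) _ ≫ tmap (cokernel.π e) (R m) = 0
      rw [← nuA_natural, nuA_twist_eq_zero hJ k₁ (hk₁ (k₁ + 1) (Nat.le_succ _)) hR, comp_zero]), Hm_comp]
    exact hm₀ m hm _
  refine ⟨d + (k₁ + 1), d * m₀, fun j hj H hH => ?_⟩
  obtain ⟨m, hm, hjm, hmj⟩ : ∃ m, m₀ ≤ m ∧ j ≤ d * m ∧ d * m ≤ j + d := by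
    refine ⟨j / d + 1, ((Nat.le_div_iff_mul_le hd0).2 (by rwa [mul_comm] at hj)).trans (Nat.le_succ _), ?_, ?_⟩
    · rw [mul_add, mul_one]
      exact (Nat.lt_div_mul_add hd0).le.trans (le_of_eq (by rw [mul_comm]))
    · rw [mul_add, mul_one]
      exact Nat.add_le_add_right (Nat.mul_div_le j d) d
  refine killed_mono (a := d * m - j + (k₁ + 1)) (killed_add_right (hkill m hm _ ?_)) (by omega)
  rw [cl_it, hH, cl_one, one_mul, ← pow_add, Nat.add_sub_cancel' hjm]

include k in
/-- The effective Lefschetz condition. -/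
theorem leffCond (hamp : CohB1.IsAmple L) (σ : Coh.structureModule X ⟶ L) [Mono σ]
    (hd : ∀ x : X, x ∉ ((PicF2.zeroScheme L σ).support : Set X) → (2 : WithBot ℕ∞) <
      (LocCoh.depth (X.presheaf.stalk x) (X.presheaf.stalk x) : WithBot ℕ∞) +
        topologicalKrullDim ↥(closure ({x} : Set X))) :
    LefX.LeffCond X (PicF2.zeroScheme L σ) := by
  haveI : IsLocallyNoetherian X := LocallyOfFiniteType.isLocallyNoetherian (X ↘ Spec (CommRingCat.of k))
  obtain ⟨-, hL⟩ := LefZero.isInverseOf_zeroScheme hamp.1 σ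
  have hd1 : ∀ x : X, x ∉ ((PicF2.zeroScheme L σ).support : Set X) → (1 : WithBot ℕ∞) <
      (LocCoh.depth (X.presheaf.stalk x) (X.presheaf.stalk x) : WithBot ℕ∞) +
        topologicalKrullDim ↥(closure ({x} : Set X)) := fun x hx =>
    lt_of_le_of_lt (by norm_num) (hd x hx)
  refine ⟨LefDepth.lefCond k hamp σ hd1, fun 𝔐 h𝔐 => exists_algebraization k hL hamp (fun P hP => ?_)
    (fun 𝔎 h𝔎 => exists_killTw_level k hL hamp
      (fun i hi => exists_killTw_structure k hamp σ hL 2 (by exact_mod_cast hd) i (by omega)) 𝔎 h𝔎) 𝔐 h𝔐⟩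
  obtain ⟨P', hP', ⟨θ⟩⟩ := W7Hull.exists_tensor_inverse hP
  exact LefDepth.homToFormal_invertible k hamp σ hd1 hP hP' θ

end

end Groth.Agent.LeffKill
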