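import Groth.Agent.LeffAmple.Seq
import Groth.Agent.LeffAmple.Twist

/-!
Iterated multiplication by an ideal sheaf, as natural transformations.
-/

set_option autoImplicit false
set_option maxHeartbeats 1000000
set_option linter.style.haveILetI false
set_option linter.unusedSectionVars false
set_option backward.isDefEq.respectTransparency false
set_option backward.isDefEq.respectTransparency.types false
universe u

namespace Groth.Agent.LeffKill

open CategoryTheory CategoryTheory.Limits AlgebraicGeometry TopologicalSpace Opposite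
open Groth.Agent.K0Dev (St)
open Groth.Agent.CycK0 (twist theta)
open Groth.Agent.CohFinite (tmap)
open Groth.Agent.LeffAmple (mulJ schB_map_app)

noncomputable section

variable {X : Scheme.{u}} (I : X.IdealSheafData)

theorem twist_map_eq {M N : X.Modules} (f : M ⟶ N) (L : X.Modules) : (twist L).map f = tmap f L :=
  schB_map_app f L

theorem mulJ_natural {M N : X.Modules} (f : M ⟶ N) :
    (twist (ClSub.idealMod I)).map f ≫ mulJ I N = mulJ I M ≫ f := by
  rw [twist_map_eq]
  refine TMul.hom_ext fun U s a => ?_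
  show (mulJ I N).app U ((tmap f (ClSub.idealMod I)).app U (TMul.tm s a)) =
    f.app U ((mulJ I M).app U (TMul.tm s a))
  rw [CohFinite.tmap_tm]
  refine (LeffAmple.mulJ_tm I N _ a).trans ?_
  refine Eq.trans ?_ (congrArg (f.app U) (LeffAmple.mulJ_tm I M s a)).symm
  rw [TMul.app_smul]

/-- Multiplication by the ideal as a natural transformation. -/
def mulNat : twist (ClSub.idealMod I) ⟶ 𝟭 X.Modules where
  app G := mulJ I G
  naturality _ _ f := mulJ_natural I f

end

noncomputable section Abstract

variable {C : Type*} [Category C] (F : C ⥤ C) (α : F ⟶ 𝟭 C)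

/-- Iterates of a functor. -/
def itF : ℕ → (C ⥤ C)
  | 0 => 𝟭 _
  | p + 1 => itF p ⋙ F

/-- Iterates of a transformation to the identity. -/
def nuF : ∀ p, itF F p ⟶ 𝟭 C
  | 0 => 𝟙 _
  | p + 1 => Functor.whiskerRight (nuF p) F ≫ (Functor.leftUnitor _).hom ≫ α

theorem nuF_succ_app (p : ℕ) (G : C) : (nuF F α (p + 1)).app G = F.map ((nuF F α p).app G) ≫ α.app G :=
  congrArg (F.map ((nuF F α p).app G) ≫ ·) (Category.id_comp _)

theorem nuF_natural (p : ℕ) {M N : C} (f : M ⟶ N) :
    (itF F p).map f ≫ (nuF F α p).app N = (nuF F α p).app M ≫ f :=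
  (nuF F α p).naturality f

/-- Iterates compose. -/
theorem exists_nuF_add (a b : ℕ) (H : C) :
    ∃ u : (itF F (a + b)).obj H ≅ (itF F b).obj ((itF F a).obj H),
      (nuF F α (a + b)).app H = u.hom ≫ (nuF F α b).app ((itF F a).obj H) ≫ (nuF F α a).app H := by
  induction b with
  | zero => exact ⟨Iso.refl _, ((Category.id_comp _).trans (Category.id_comp _)).symm⟩
  | succ b ih =>
    obtain ⟨u, hu⟩ := ih
    refine ⟨F.mapIso u, ?_⟩
    show (nuF F α (a + b + 1)).app H = _
    rw [nuF_succ_app, nuF_succ_app, hu, Functor.map_comp, Functor.map_comp, Functor.mapIso_hom]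
    simp only [Category.assoc]
    exact congrArg (fun z => F.map u.hom ≫ F.map ((nuF F α b).app ((itF F a).obj H)) ≫ z)
      (α.naturality ((nuF F α a).app H))

theorem itF_map_zero [HasZeroMorphisms C] [F.PreservesZeroMorphisms] : ∀ (p : ℕ) (M N : C),
    (itF F p).map (0 : M ⟶ N) = 0
  | 0, _, _ => rfl
  | p + 1, M, N => by
    show F.map ((itF F p).map 0) = 0
    rw [itF_map_zero p M N]
    exact F.map_zero _ _

theorem shortExact_itF [HasZeroMorphisms C] [F.PreservesZeroMorphisms]
    (hF : ∀ {S : ShortComplex C}, S.ShortExact → (S.map F).ShortExact) {S : ShortComplex C} (hS : S.ShortExact) :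
    ∀ p, (ShortComplex.mk ((itF F p).map S.f) ((itF F p).map S.g)
      (by rw [← Functor.map_comp, S.zero, itF_map_zero])).ShortExact
  | 0 => hS
  | p + 1 => hF (shortExact_itF hF hS p)

end Abstract

noncomputable section

variable {X : Scheme.{u}} (I : X.IdealSheafData)

/-- Iterated twisting by the ideal. -/
abbrev it (p : ℕ) : X.Modules ⥤ X.Modules := itF (twist (ClSub.idealMod I)) p

/-- Iterated multiplication by the ideal. -/
abbrev nu (p : ℕ) : it I p ⟶ 𝟭 X.Modules := nuF (twist (ClSub.idealMod I)) (mulNat I) p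

theorem shortExact_it (hI : BlowUp.IsEffCartierIdeal I) {S : ShortComplex X.Modules} (hS : S.ShortExact) (p : ℕ) :
    (ShortComplex.mk ((it I p).map S.f) ((it I p).map S.g)
      (by rw [← Functor.map_comp, S.zero]; exact itF_map_zero _ _ _ _)).ShortExact :=
  shortExact_itF _ (fun h => CycK0.twist_shortExact ((Groth.Agent.S8914.result I).2 hI) h) hS p

/-- Iterated multiplication on a module. -/
def nuA (p : ℕ) (G : X.Modules) : (it I p).obj G ⟶ G := (nu I p).app G

theorem nuA_natural (p : ℕ) {M N : X.Modules} (f : M ⟶ N) : (it I p).map f ≫ nuA I p N = nuA I p M ≫ f :=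
  nuF_natural _ _ p f

theorem nuA_succ (p : ℕ) (G : X.Modules) :
    nuA I (p + 1) G = (twist (ClSub.idealMod I)).map (nuA I p G) ≫ mulJ I G :=
  nuF_succ_app _ _ p G

theorem exists_nuA_add (a b : ℕ) (H : X.Modules) :
    ∃ u : (it I (a + b)).obj H ≅ (it I b).obj ((it I a).obj H),
      nuA I (a + b) H = u.hom ≫ nuA I b ((it I a).obj H) ≫ nuA I a H :=
  exists_nuF_add _ _ a b H

theorem additive_it : ∀ p, ((it I p)).Additive
  | 0 => inferInstanceAs (𝟭 X.Modules).Additive
  | p + 1 => by
    haveI := additive_it p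
    exact inferInstanceAs (it I p ⋙ twist (ClSub.idealMod I)).Additive

end

end Groth.Agent.LeffKill
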