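import Groth.Agent.LeffKill.Iter
import Groth.Agent.LeffAmple.LocVan
import Groth.Agent.CohFinite.Sequence

/-!
Modules whose cohomology is killed by a power of the ideal, uniformly in negative twists.
-/

set_option autoImplicit false
set_option maxHeartbeats 1000000
set_option linter.style.haveILetI false
set_option linter.unusedSectionVars false
set_option backward.isDefEq.respectTransparency false
set_option backward.isDefEq.respectTransparency.types false
universe u

namespace Groth.Agent.LeffKill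

open CategoryTheory CategoryTheory.Limits AlgebraicGeometry TopologicalSpace Opposite
open Groth.Agent.CycK0 (twist)
open Groth.Agent.CohFinite (tmap δH)
open Groth.Agent.Nakai (cl_tensor cl_pow cl_one iso_of_cl)

attribute [local instance] Groth.Agent.Nakai.clMonoid

noncomputable section

variable {X : Scheme.{u}}

/-- The map induced on cohomology. -/
abbrev Hm {M N : X.Modules} (f : M ⟶ N) (i : ℕ) : Coh.HH X M i →+ Coh.HH X N i :=
  Sheaf.H.map ((SheafOfModules.toSheaf X.ringCatSheaf).map f) i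

theorem Hm_comp {M N K : X.Modules} (f : M ⟶ N) (g : N ⟶ K) (i : ℕ) (x : Coh.HH X M i) :
    Hm (f ≫ g) i x = Hm g i (Hm f i x) := by
  show Sheaf.H.map ((SheafOfModules.toSheaf X.ringCatSheaf).map (f ≫ g)) i x = _
  rw [Functor.map_comp]
  exact Sheaf.H.map_comp_apply _ _ x

theorem Hm_id (M : X.Modules) (i : ℕ) (x : Coh.HH X M i) : Hm (𝟙 M) i x = x := by
  show Sheaf.H.map ((SheafOfModules.toSheaf X.ringCatSheaf).map (𝟙 M)) i x = x
  rw [CategoryTheory.Functor.map_id]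
  exact Sheaf.H.map_id_apply x

variable (I : X.IdealSheafData)

/-- The `c`-th power of the ideal kills the cohomology. -/
def Killed (i c : ℕ) (H : X.Modules) : Prop := ∀ x, Hm (nuA I c H) i x = 0

/-- The `c`-th power of the ideal kills the cohomology of all sufficiently negative twists. -/
def KillTw (i c : ℕ) (G : X.Modules) : Prop :=
  ∃ m₀, ∀ m, m₀ ≤ m → ∀ H : X.Modules, PicF.cl H = PicF.cl G * PicF.cl (ClSub.idealMod I) ^ m → Killed I i c H

variable {I}

theorem killed_of_iso {i c : ℕ} {H H' : X.Modules} (e : H ≅ H') (h : Killed I i c H) : Killed I i c H' := fun x => by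
  have hx : x = Hm ((it I c).map e.hom) i (Hm ((it I c).map e.inv) i x) := by
    rw [← Hm_comp, ← Functor.map_comp, e.inv_hom_id, CategoryTheory.Functor.map_id, Hm_id]
  rw [hx, ← Hm_comp, nuA_natural, Hm_comp, h, map_zero]

theorem killed_add_left {i a : ℕ} {H : X.Modules} (h : Killed I i a H) (b : ℕ) : Killed I i (a + b) H := fun x => by
  obtain ⟨u, hu⟩ := exists_nuA_add I a b H
  rw [hu, Hm_comp, Hm_comp]
  exact h _

theorem killed_add_right {i a b : ℕ} {H : X.Modules} (h : Killed I i b ((it I a).obj H)) :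
    Killed I i (a + b) H := fun x => by
  obtain ⟨u, hu⟩ := exists_nuA_add I a b H
  rw [hu, Hm_comp, Hm_comp, h, map_zero]

theorem killed_mono {i a c : ℕ} {H : X.Modules} (h : Killed I i a H) (hac : a ≤ c) : Killed I i c H := by
  obtain ⟨b, rfl⟩ := Nat.exists_eq_add_of_le hac
  exact killed_add_left h b

theorem cl_it (G : X.Modules) : ∀ p, PicF.cl ((it I p).obj G) = PicF.cl G * PicF.cl (ClSub.idealMod I) ^ p
  | 0 => by rw [pow_zero, mul_one]; rfl
  | p + 1 => by
    rw [pow_succ, ← mul_assoc, ← cl_it G p]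
    rfl

variable (hI : BlowUp.IsEffCartierIdeal I)

include hI in
/-- The middle term from the outer ones. -/
theorem killed_middle {i a b : ℕ} {S : ShortComplex X.Modules} (hS : S.ShortExact) (h₁ : Killed I i a S.X₁)
    (h₃ : Killed I i b ((it I a).obj S.X₃)) : Killed I i (a + b) S.X₂ := fun x => by
  obtain ⟨u, hu⟩ := exists_nuA_add I a b S.X₂
  rw [hu, Hm_comp, Hm_comp]
  let y := Hm (nuA I b ((it I a).obj S.X₂)) i (Hm u.hom i x)
  have hy : Hm ((it I a).map S.g) i y = 0 := by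
    show Hm ((it I a).map S.g) i (Hm (nuA I b ((it I a).obj S.X₂)) i (Hm u.hom i x)) = 0
    rw [← Hm_comp, ← nuA_natural, Hm_comp]
    exact h₃ _
  obtain ⟨w, hw⟩ := (CohFinite.map_g_eq_zero_iff (CohFinite.shortExact_toAb (shortExact_it I hI hS a)) i y).1 hy
  show Hm (nuA I a S.X₂) i y = 0
  rw [← hw]
  show Hm (nuA I a S.X₂) i (Hm ((it I a).map S.f) i w) = 0
  rw [← Hm_comp, nuA_natural, Hm_comp, h₁, map_zero]

/-- The map of short exact sequences given by iterated multiplication. -/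
def nuHom (T : ShortComplex X.Modules) (p : ℕ) :
    ShortComplex.mk ((it I p).map T.f) ((it I p).map T.g)
      (by rw [← Functor.map_comp, T.zero]; exact itF_map_zero _ _ _ _) ⟶ T :=
  ShortComplex.homMk (nuA I p T.X₁) (nuA I p T.X₂) (nuA I p T.X₃)
    (nuA_natural I p T.f).symm (nuA_natural I p T.g).symm

theorem δH_Hm {S T : ShortComplex X.Modules} (hS : S.ShortExact) (hT : T.ShortExact) (τ : S ⟶ T)
    (g : S.X₃ ⟶ T.X₃) (f : S.X₁ ⟶ T.X₁) (hg : g = τ.τ₃) (hf : f = τ.τ₁) (i : ℕ) (z : Coh.HH X S.X₃ i) :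
    δH (CohFinite.shortExact_toAb hT) i (Hm g i z) = Hm f (i + 1) (δH (CohFinite.shortExact_toAb hS) i z) := by
  subst hg hf
  exact CohFinite.δH_natural (CohFinite.shortExact_toAb hS) (CohFinite.shortExact_toAb hT)
    ((SheafOfModules.toSheaf X.ringCatSheaf).mapShortComplex.map τ) i z

theorem right_aux {S T : ShortComplex X.Modules} (hS : S.ShortExact) (hT : T.ShortExact) (τ : S ⟶ T)
    {M₂ M₃ : X.Modules} (n₂ : T.X₂ ⟶ M₂) (n₃ : T.X₃ ⟶ M₃) (g : M₂ ⟶ M₃) (sq : T.g ≫ n₃ = n₂ ≫ g) (i : ℕ)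
    (h₁ : ∀ z, Hm τ.τ₁ (i + 1) z = 0) (h₂ : ∀ z, Hm n₂ i z = 0) (z : Coh.HH X S.X₃ i) :
    Hm n₃ i (Hm τ.τ₃ i z) = 0 := by
  obtain ⟨w, hw⟩ := (CohFinite.δH_eq_zero_iff (CohFinite.shortExact_toAb hT) i _).1
    ((δH_Hm hS hT τ τ.τ₃ τ.τ₁ rfl rfl i z).trans (h₁ _))
  rw [← hw]
  show Hm n₃ i (Hm T.g i w) = 0
  rw [← Hm_comp, sq, Hm_comp, h₂, map_zero]

include hI in
/-- The last term from the middle and the first one a degree higher. -/
theorem killed_right {i a b : ℕ} {S : ShortComplex X.Modules} (hS : S.ShortExact) (h₂ : Killed I i a S.X₂)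
    (h₁ : Killed I (i + 1) b ((it I a).obj S.X₁)) : Killed I i (a + b) S.X₃ := fun x => by
  obtain ⟨u, hu⟩ := exists_nuA_add I a b S.X₃
  rw [hu, Hm_comp, Hm_comp]
  have hT := shortExact_it I hI hS a
  exact right_aux (shortExact_it I hI hT b) hT (nuHom _ b) (nuA I a S.X₂) (nuA I a S.X₃) S.g
    (nuA_natural I a S.g) i h₁ h₂ (Hm u.hom i x)

include hI in
/-- A submodule in degree zero. -/
theorem killed_left {c : ℕ} {S : ShortComplex X.Modules} (hS : S.ShortExact) (h₂ : Killed I 0 c S.X₂) :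
    Killed I 0 c S.X₁ := fun x => by
  refine CohFinite.map_f_injective (CohFinite.shortExact_toAb hS) ?_
  refine Eq.trans ?_ (map_zero (Hm S.f 0)).symm
  show Hm S.f 0 (Hm (nuA I c S.X₁) 0 x) = 0
  rw [← Hm_comp, ← nuA_natural, Hm_comp]
  exact h₂ _

theorem killTw_mono {i a c : ℕ} {G : X.Modules} (h : KillTw I i a G) (hac : a ≤ c) : KillTw I i c G := by
  obtain ⟨m₀, hm₀⟩ := h
  exact ⟨m₀, fun m hm H hH => killed_mono (hm₀ m hm H hH) hac⟩

theorem killTw_of_cl {i c d : ℕ} {G G' : X.Modules}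
    (hG : PicF.cl G' * PicF.cl (ClSub.idealMod I) ^ d = PicF.cl G) (h : KillTw I i c G) : KillTw I i c G' := by
  obtain ⟨m₀, hm₀⟩ := h
  refine ⟨m₀ + d, fun m hm H hH => hm₀ (m - d) (by omega) H ?_⟩
  rw [hH, ← hG, mul_assoc, ← pow_add, Nat.add_sub_cancel' (by omega : d ≤ m)]

theorem killTw_of_iso {i c : ℕ} {G G' : X.Modules} (e : G ≅ G') (h : KillTw I i c G) : KillTw I i c G' := by
  refine killTw_of_cl (d := 0) ?_ h
  rw [pow_zero, mul_one]
  exact ((PicGrp.cl_eq_cl_iff _ _).2 ⟨e⟩).symm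

section Twisted

variable {S : ShortComplex X.Modules} (hS : S.ShortExact)

include hI hS in
theorem exists_twisted (m : ℕ) :
    ∃ T : ShortComplex X.Modules, T.ShortExact ∧
      PicF.cl T.X₁ = PicF.cl S.X₁ * PicF.cl (ClSub.idealMod I) ^ m ∧
      PicF.cl T.X₂ = PicF.cl S.X₂ * PicF.cl (ClSub.idealMod I) ^ m ∧
      PicF.cl T.X₃ = PicF.cl S.X₃ * PicF.cl (ClSub.idealMod I) ^ m := by
  refine ⟨_, CohFinite.shortExact_tmap (TMul.isInvertible_tensorPow ((Groth.Agent.S8914.result I).2 hI) m) hS,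
    ?_, ?_, ?_⟩ <;> rw [cl_tensor, cl_pow]

include hI hS in
theorem killTw_middle {i a b : ℕ} (h₁ : KillTw I i a S.X₁) (h₃ : KillTw I i b S.X₃) :
    KillTw I i (a + b) S.X₂ := by
  obtain ⟨m₁, hm₁⟩ := h₁
  obtain ⟨m₃, hm₃⟩ := h₃
  refine ⟨max m₁ m₃, fun m hm H hH => ?_⟩
  obtain ⟨T, hT, e₁, e₂, e₃⟩ := exists_twisted hI hS m
  refine killed_of_iso (iso_of_cl (e₂.trans hH.symm)).some (killed_middle hI hT (hm₁ m (le_of_max_le_left hm) _ e₁)
    (hm₃ (m + a) (by omega) _ ?_))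
  rw [cl_it, e₃, mul_assoc, ← pow_add]

include hI hS in
theorem killTw_right {i a b : ℕ} (h₂ : KillTw I i a S.X₂) (h₁ : KillTw I (i + 1) b S.X₁) :
    KillTw I i (a + b) S.X₃ := by
  obtain ⟨m₁, hm₁⟩ := h₁
  obtain ⟨m₂, hm₂⟩ := h₂
  refine ⟨max m₁ m₂, fun m hm H hH => ?_⟩
  obtain ⟨T, hT, e₁, e₂, e₃⟩ := exists_twisted hI hS m
  refine killed_of_iso (iso_of_cl (e₃.trans hH.symm)).some (killed_right hI hT (hm₂ m (le_of_max_le_right hm) _ e₂)
    (hm₁ (m + a) (by omega) _ ?_))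
  rw [cl_it, e₁, mul_assoc, ← pow_add]

include hI hS in
theorem killTw_left {c : ℕ} (h₂ : KillTw I 0 c S.X₂) : KillTw I 0 c S.X₁ := by
  obtain ⟨m₂, hm₂⟩ := h₂
  refine ⟨m₂, fun m hm H hH => ?_⟩
  obtain ⟨T, hT, e₁, e₂, -⟩ := exists_twisted hI hS m
  exact killed_of_iso (iso_of_cl (e₁.trans hH.symm)).some (killed_left hI hT (hm₂ m hm _ e₂))

end Twisted

include hI in
theorem killed_biproduct {ι : Type} [Finite ι] (N : ι → X.Modules) {i c : ℕ} (h : ∀ j, Killed I i c (N j)) :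
    Killed I i c (⨁ N) := fun x => by
  have : Fintype ι := Fintype.ofFinite ι
  let y := Hm (nuA I c (⨁ N)) i x
  let φ : (⨁ N ⟶ ⨁ N) →+ Coh.HH X (⨁ N) i :=
    AddMonoidHom.mk' (fun f => Hm f i y) fun f g =>
      (congrArg (fun z => Sheaf.H.map z i y)
        ((SheafOfModules.toSheaf X.ringCatSheaf).map_add (f := f) (g := g))).trans (Sheaf.H.map_add_apply _ _ _)
  calc y = φ (𝟙 _) := (Hm_id _ _ y).symm
    _ = φ (∑ j, biproduct.π N j ≫ biproduct.ι N j) := congrArg φ biproduct.total.symm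
    _ = ∑ j, φ (biproduct.π N j ≫ biproduct.ι N j) := map_sum φ _ _
    _ = 0 := Finset.sum_eq_zero fun j _ => by
      refine (Hm_comp _ _ i y).trans ((congrArg (Hm (biproduct.ι N j) i) ?_).trans (map_zero _))
      show Hm (biproduct.π N j) i (Hm (nuA I c (⨁ N)) i x) = 0
      rw [← Hm_comp, ← nuA_natural, Hm_comp]
      exact h j _

include hI in
theorem killTw_sum {i c : ℕ} {T : X.Modules} (h : KillTw I i c T) (n : ℕ) :
    KillTw I i c (⨁ fun _ : Fin n => T) := by
  obtain ⟨m₀, hm₀⟩ := h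
  refine ⟨m₀, fun m hm H hH => ?_⟩
  let P := CohB1.tensorPow (ClSub.idealMod I) m
  have hP : PicF.IsInvertible P := TMul.isInvertible_tensorPow ((Groth.Agent.S8914.result I).2 hI) m
  haveI : (SerrePn.tens P).Additive := by
    obtain ⟨θ⟩ := ResDesc.nonempty_dual_tensor_iso hP
    haveI : (SerrePn.tens P).IsEquivalence :=
      (SerrePn.tensEquiv (TMul.commIso _ _ ≪≫ θ) θ).isEquivalence_functor
    exact Functor.additive_of_preserves_binary_products _
  obtain ⟨e⟩ : Nonempty (CohB1.tensorMod (⨁ fun _ : Fin n => T) P ≅ H) :=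
    iso_of_cl (by rw [cl_tensor, cl_pow, hH])
  refine killed_of_iso (((SerrePn.tens P).mapBiproduct fun _ : Fin n => T).symm ≪≫ e) (killed_biproduct hI _ fun _ => ?_)
  refine hm₀ m hm _ ?_
  show PicF.cl (CohB1.tensorMod T P) = _
  rw [cl_tensor, cl_pow]

end

end Groth.Agent.LeffKill
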