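import Groth.Agent.LeffKill.Iter
import Groth.Agent.LeffAmple.Seq

/-!
Short exact sequences between levels of a locally free system by iterated multiplication.
-/

set_option autoImplicit false
set_option maxHeartbeats 1000000
set_option linter.style.haveILetI false
set_option linter.unusedSectionVars false
set_option backward.isDefEq.respectTransparency false
set_option backward.isDefEq.respectTransparency.types false
universe u

namespace Groth.Agent.LeffKill

open CategoryTheory CategoryTheory.Limits AlgebraicGeometry TopologicalSpace Opposite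
open Groth.Agent.K0Dev (St)
open Groth.Agent.CycK0 (twist theta)
open Groth.Agent.WeakAssLib (mgerm)
open Groth.Agent.LeffAmple (mulJ Eqn exists_eqn tr tr_stalk)
open FormAlg (sysObj sysTn)
open TMul (IsGen)

noncomputable section

variable {X : Scheme.{u}} {I : X.IdealSheafData}

/-- Stalks of iterated twists, compatibly with multiplication by the equation. -/
theorem exists_itTheta (hI : BlowUp.IsEffCartierIdeal I) {x : X} (ε : Eqn I x) (p : ℕ) :
    ∃ (θ : ∀ G : X.Modules, G.presheaf.stalk x ≃ₗ[X.presheaf.stalk x] ((it I p).obj G).presheaf.stalk x)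
      (c : X.presheaf.stalk x), IsUnit c ∧
      (∀ (M N : X.Modules) (f : M ⟶ N) v, ((St x).map ((it I p).map f)).hom (θ M v) = θ N (((St x).map f).hom v)) ∧
      ∀ G v, ((St x).map (nuA I p G)).hom (θ G v) = (c * ε.γ ^ p) • v := by
  induction p with
  | zero =>
    refine ⟨fun G => LinearEquiv.refl _ _, 1, isUnit_one, fun M N f v => rfl, fun G v => ?_⟩
    rw [pow_zero, mul_one, one_smul]
    show ((St x).map (𝟙 G)).hom v = v
    rw [CategoryTheory.Functor.map_id]
    rfl
  | succ p ih =>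
    obtain ⟨θ, c, hc, hnat, hnu⟩ := ih
    have key := LeffAmple.exists_gen_pow hI ε 0
    rw [zero_add, pow_one, pow_one] at key
    obtain ⟨A, e, hx, he, c', hc', heq⟩ := key
    refine ⟨fun G => (θ G).trans (theta he hx ((it I p).obj G)), c' * c, hc'.mul hc, fun M N f v => ?_,
      fun G v => ?_⟩
    · refine (CycK0.theta_natural he hx ((it I p).map f) (θ M v)).trans ?_
      rw [hnat]
      rfl
    · rw [nuA_succ, Functor.map_comp]
      show ((St x).map (mulJ I G)).hom (((St x).map ((twist (ClSub.idealMod I)).map (nuA I p G))).hom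
        (theta he hx ((it I p).obj G) (θ G v))) = _
      rw [CycK0.theta_natural, LeffAmple.mulJ_theta, heq, hnu, smul_smul, pow_succ]
      exact congrArg (· • v) (by ring)

theorem epi_it (hI : BlowUp.IsEffCartierIdeal I) (p : ℕ) {M N : X.Modules} (f : M ⟶ N) [Epi f] :
    Epi ((it I p).map f) :=
  (shortExact_it I hI (S := ShortComplex.mk (kernel.ι f) f (kernel.condition f))
    { exact := ShortComplex.exact_of_f_is_kernel _ (kernelIsKernel f) } p).epi_g

variable (𝔐 : FSch.ModSys (FSch.completionAlong X I))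

/-- The levels fit in short exact sequences given by iterated multiplication. -/
theorem exists_itSeq (hI : BlowUp.IsEffCartierIdeal I) (h𝔐 : ∀ n, FlatMod.IsFinLocFree (𝔐.F n)) (a b m : ℕ)
    (hm : a + b + 1 = m) :
    ∃ (φ : (it I (a + 1)).obj (sysObj 𝔐 b) ⟶ sysObj 𝔐 m)
      (w : φ ≫ tr 𝔐 (show a ≤ m by omega) = 0), (ShortComplex.mk φ _ w).ShortExact ∧
      (it I (a + 1)).map (tr 𝔐 (show b ≤ m by omega)) ≫ φ = nuA I (a + 1) (sysObj 𝔐 m) := by
  have hbm : b ≤ m := by omega
  have ham : a ≤ m := by omega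
  let q := (it I (a + 1)).map (tr 𝔐 hbm)
  let f := nuA I (a + 1) (sysObj 𝔐 m)
  haveI hqepi : Epi q := by
    haveI := LeffAmple.epi_tr 𝔐 hI hbm
    exact epi_it hI _ _
  have hk : kernel.ι q ≫ f = 0 := by
    refine FlatFunLib.eq_zero_of_stalks _ fun x => ?_
    obtain ⟨ε⟩ := exists_eqn hI x
    obtain ⟨θ, c, hc, hnat, hnu⟩ := exists_itTheta hI ε (a + 1)
    refine ModuleCat.hom_ext (LinearMap.ext fun u => ?_)
    rw [Functor.map_comp]
    show ((St x).map f).hom (((St x).map (kernel.ι q)).hom u) = 0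
    obtain ⟨v, hv⟩ := (θ (sysObj 𝔐 m)).surjective (((St x).map (kernel.ι q)).hom u)
    have h0 : ((St x).map q).hom (((St x).map (kernel.ι q)).hom u) = 0 := by
      rw [← ConcreteCategory.comp_apply ((St x).map (kernel.ι q)), ← Functor.map_comp, kernel.condition, Functor.map_zero]
      rfl
    rw [← hv, hnat] at h0
    obtain ⟨w, hw⟩ := (tr_stalk ε hbm).2 v ((θ (sysObj 𝔐 b)).map_eq_zero_iff.1 h0)
    rw [← hv, hnu, hw, smul_smul, mul_assoc, ← pow_add, mul_smul,
      show a + 1 + (b + 1) = m + 1 by omega, LeffAmple.pow_smul_eq_zero, smul_zero]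
  let φ := Abelian.epiDesc q f hk
  have hqφ : q ≫ φ = f := Abelian.comp_epiDesc q f hk
  have hw : φ ≫ tr 𝔐 ham = 0 := by
    rw [← cancel_epi q, comp_zero, ← Category.assoc, hqφ]
    refine FlatFunLib.eq_zero_of_stalks _ fun x => ?_
    obtain ⟨ε⟩ := exists_eqn hI x
    obtain ⟨θ, c, hc, hnat, hnu⟩ := exists_itTheta hI ε (a + 1)
    refine ModuleCat.hom_ext (LinearMap.ext fun u => ?_)
    obtain ⟨v, rfl⟩ := (θ (sysObj 𝔐 m)).surjective u
    rw [Functor.map_comp]
    show ((St x).map (tr 𝔐 ham)).hom (((St x).map f).hom (θ (sysObj 𝔐 m) v)) = 0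
    rw [hnu, map_smul, mul_smul, LeffAmple.pow_smul_eq_zero, smul_zero]
  refine ⟨φ, hw, CycK0.shortExact_of_stalks _ fun x => ?_, hqφ⟩
  obtain ⟨ε⟩ := exists_eqn hI x
  obtain ⟨θ, c, hc, hnat, hnu⟩ := exists_itTheta hI ε (a + 1)
  obtain ⟨hb₁, hb₂⟩ := tr_stalk (𝔐 := 𝔐) ε hbm
  have hφ : ∀ v, ((St x).map φ).hom (θ (sysObj 𝔐 b) (((St x).map (tr 𝔐 hbm)).hom v)) =
      ((St x).map f).hom (θ (sysObj 𝔐 m) v) := fun v => by
    rw [← hnat, ← hqφ, Functor.map_comp]
    rfl
  refine { exact := ?_, mono_f := (ModuleCat.mono_iff_injective _).2 ?_,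
           epi_g := (ModuleCat.epi_iff_surjective _).2 (tr_stalk ε ham).1 }
  · rw [ShortComplex.moduleCat_exact_iff]
    intro u hu
    obtain ⟨w, hw'⟩ := (tr_stalk ε ham).2 u hu
    obtain ⟨r, hr⟩ := hc.exists_left_inv
    refine ⟨θ (sysObj 𝔐 b) (((St x).map (tr 𝔐 hbm)).hom (r • w)), ?_⟩
    refine (hφ _).trans ?_
    rw [hnu, hw', smul_smul, mul_comm c, mul_assoc, mul_comm c r, hr, mul_one]
  · refine (injective_iff_map_eq_zero ((St x).map φ).hom).2 fun u hu => ?_
    obtain ⟨u', rfl⟩ := (θ (sysObj 𝔐 b)).surjective u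
    obtain ⟨v, rfl⟩ := hb₁ u'
    have h1 := (hφ v).symm.trans hu
    rw [hnu, mul_smul] at h1
    obtain ⟨w, hw'⟩ := LeffAmple.exists_of_pow_smul_eq_zero ε h𝔐 (i := a + 1) (k := b + 1) (by omega) v
      ((hc.smul_eq_zero).1 h1)
    rw [hw', map_smul, LeffAmple.pow_smul_eq_zero, map_zero]

end

end Groth.Agent.LeffKill
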