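import Groth.Agent.LeffKill.Killed
import Groth.Agent.LeffKill.Seq
import Groth.Agent.LeffAmple.Algebraize

/-!
Algebraization along an ample divisor when powers of the ideal kill the first cohomology of negative twists.
-/

set_option autoImplicit false
set_option maxHeartbeats 1000000
set_option linter.style.haveILetI false
set_option linter.unusedSectionVars false
set_option backward.isDefEq.respectTransparency false
set_option backward.isDefEq.respectTransparency.types false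
universe u

namespace Groth.Agent.LeffKill

open CategoryTheory CategoryTheory.Limits CategoryTheory.Abelian AlgebraicGeometry TopologicalSpace Opposite
open Groth.Agent.CycK0 (twist)
open Groth.Agent.ZarPicLib (sec secZ secZ_comp)
open Groth.Agent.Nakai (cl_tensor cl_pow cl_one iso_of_cl)
open Groth.Agent.CohFinite (tmap hhMap hhEquiv)
open Groth.Agent.LeffAmple (mulJ tr)
open FormAlg (sysObj sysTn)

attribute [local instance] Groth.Agent.Nakai.clMonoid

noncomputable section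

theorem exists_facF {C : Type*} [Category C] (F : C ⥤ C) (α : F ⟶ 𝟭 C) (a b : ℕ) :
    ∃ u : itF F (a + b) ≅ itF F a ⋙ itF F b,
      ∀ H, (nuF F α (a + b)).app H = u.hom.app H ≫ (nuF F α b).app ((itF F a).obj H) ≫ (nuF F α a).app H := by
  induction b with
  | zero => exact ⟨(Functor.rightUnitor _).symm, fun H => ((Category.id_comp _).trans (Category.id_comp _)).symm⟩
  | succ b ih =>
    obtain ⟨u, hu⟩ := ih
    refine ⟨Functor.isoWhiskerRight u F ≪≫ Functor.associator _ _ _, fun H => ?_⟩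
    show (nuF F α (a + b + 1)).app H = (F.map (u.hom.app H) ≫ 𝟙 _) ≫ (nuF F α (b + 1)).app _ ≫ _
    rw [Category.comp_id, nuF_succ_app, nuF_succ_app, hu, Functor.map_comp, Functor.map_comp]
    simp only [Category.assoc]
    exact congrArg (fun z => F.map (u.hom.app H) ≫ F.map ((nuF F α b).app ((itF F a).obj H)) ≫ z)
      (α.naturality ((nuF F α a).app H))

variable {X : Scheme.{u}} {I : X.IdealSheafData}

/-- Multiplication by `I ^ d` factors through multiplication by `I ^ a`. -/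
theorem exists_fac (I : X.IdealSheafData) (a b d : ℕ) (hd : d = a + b) :
    ∃ τ : it I d ⟶ it I a, (∀ H, τ.app H ≫ nuA I a H = nuA I d H) ∧
      ∀ H, ∃ u : (it I d).obj H ⟶ (it I b).obj ((it I a).obj H), τ.app H = u ≫ nuA I b ((it I a).obj H) := by
  subst hd
  obtain ⟨u, hu⟩ := exists_facF (twist (ClSub.idealMod I)) (mulNat I) a b
  exact ⟨u.hom ≫ Functor.whiskerLeft (it I a) (nu I b) ≫ (Functor.rightUnitor _).hom,
    fun H => (congrArg (fun z => (u.hom.app H ≫ z) ≫ nuA I a H) (Category.comp_id _)).trans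
      ((Category.assoc _ _ _).trans (hu H).symm),
    fun H => ⟨u.hom.app H, congrArg (u.hom.app H ≫ ·) (Category.comp_id _)⟩⟩

/-- Twisting commutes with multiplication by the ideal. -/
theorem exists_mulJ_twist (P H : X.Modules) :
    ∃ σ : CohB1.tensorMod ((twist (ClSub.idealMod I)).obj H) P ⟶ (twist (ClSub.idealMod I)).obj (CohB1.tensorMod H P),
      IsIso σ ∧ σ ≫ mulJ I (CohB1.tensorMod H P) = tmap (mulJ I H) P ∧
      ∀ (U : X.Opens) (h : Γ(H, U)) (a : Γ(ClSub.idealMod I, U)) (p : Γ(P, U)),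
        σ.app U (TMul.tm (TMul.tm h a) p) = TMul.tm (TMul.tm h p) a := by
  let J := ClSub.idealMod I
  let e : CohB1.tensorMod (CohB1.tensorMod H J) P ≅ CohB1.tensorMod (CohB1.tensorMod H P) J :=
    TMul.assocIso H J P ≪≫ SerrePn.whiskIso H (TMul.commIso J P) ≪≫ (TMul.assocIso H P J).symm
  have htm : ∀ (U : X.Opens) (h : Γ(H, U)) (a : Γ(J, U)) (p : Γ(P, U)),
      e.hom.app U (TMul.tm (TMul.tm h a) p) = TMul.tm (TMul.tm h p) a := fun U h a p => by
    show (TMul.assocIso H P J).inv.app U ((SerrePn.whiskIso H (TMul.commIso J P)).hom.app U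
      ((TMul.assocHom H J P).app U (TMul.tm (TMul.tm h a) p))) = _
    rw [TMul.assocHom_tm, SerrePn.whiskIso_tm]
    show (TMul.assocIso H P J).inv.app U (TMul.tm h ((TMul.commHom J P).app U (TMul.tm a p))) = _
    rw [TMul.commHom_tm, ← TMul.assocHom_tm h p a, ← ConcreteCategory.comp_apply, ← Scheme.Modules.Hom.comp_app,
      show TMul.assocHom H P J ≫ (TMul.assocIso H P J).inv = 𝟙 _ from (TMul.assocIso H P J).hom_inv_id,
      Scheme.Modules.Hom.id_app]
    rfl
  refine ⟨e.hom, inferInstance, TMul.hom_ext₃ fun U h a p => ?_, htm⟩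
  show (mulJ I (CohB1.tensorMod H P)).app U (e.hom.app U (TMul.tm (TMul.tm h a) p)) =
    (tmap (mulJ I H) P).app U (TMul.tm (TMul.tm h a) p)
  rw [htm, CohFinite.tmap_tm]
  refine (LeffAmple.mulJ_tm I _ _ a).trans ?_
  refine Eq.trans ?_ (congrArg (TMul.tm · p) (LeffAmple.mulJ_tm I H h a)).symm
  exact (TMul.smul_tm _ _ _).symm

/-- Twisting commutes with iterated multiplication. -/
theorem exists_nuA_twist (P H : X.Modules) (c : ℕ) :
    ∃ σ : CohB1.tensorMod ((it I c).obj H) P ⟶ (it I c).obj (CohB1.tensorMod H P),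
      σ ≫ nuA I c (CohB1.tensorMod H P) = tmap (nuA I c H) P := by
  induction c with
  | zero => exact ⟨𝟙 _, (Category.id_comp _).trans (CohFinite.tmap_id H P).symm⟩
  | succ c ih =>
    obtain ⟨σ, hσ⟩ := ih
    obtain ⟨s, -, hs, hstm⟩ := exists_mulJ_twist (I := I) P ((it I c).obj H)
    obtain ⟨s', -, hs', hstm'⟩ := exists_mulJ_twist (I := I) P H
    refine ⟨s ≫ (twist (ClSub.idealMod I)).map σ, ?_⟩
    rw [nuA_succ, nuA_succ, CohFinite.tmap_comp, ← hs', Category.assoc, ← Functor.map_comp_assoc, hσ,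
      ← Category.assoc, ← Category.assoc]
    refine congrArg (· ≫ _) (TMul.hom_ext₃ fun U h a p => ?_)
    show ((twist (ClSub.idealMod I)).map (tmap (nuA I c H) P)).app U (s.app U (TMul.tm (TMul.tm h a) p)) =
      s'.app U ((tmap ((twist (ClSub.idealMod I)).map (nuA I c H)) P).app U (TMul.tm (TMul.tm h a) p))
    refine (congrArg (((twist (ClSub.idealMod I)).map (tmap (nuA I c H) P)).app U) (hstm U h a p)).trans ?_
    rw [twist_map_eq, twist_map_eq]
    refine (CohFinite.tmap_tm _ _ _ _).trans ?_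
    refine Eq.trans ?_ (congrArg (s'.app U) (CohFinite.tmap_tm _ _ _ _)).symm
    refine Eq.trans ?_ (congrArg (fun z => s'.app U (TMul.tm z p)) (CohFinite.tmap_tm _ _ _ _)).symm
    refine Eq.trans ?_ (hstm' U _ a p).symm
    exact congrArg (TMul.tm · a) (CohFinite.tmap_tm _ _ _ _)

/-- Sections lift along a map of short exact sequences killing the first cohomology of the kernels. -/
theorem exists_lift_top {X : TopCat.{u}} {S T : ShortComplex (CohTop.Ab X)} (hS : S.ShortExact) (hT : T.ShortExact)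
    (φ : S ⟶ T) (h : ∀ x : CohTop.H S.X₁ 1, Ext.comp x (Ext.mk₀ φ.τ₁) (add_zero 1) = 0)
    (q : S.X₃.obj.obj (op (⊤ : Opens X))) :
    ∃ w, T.g.hom.app (op (⊤ : Opens X)) w = φ.τ₃.hom.app (op (⊤ : Opens X)) q := by
  let ψ := (secZ S.X₃).symm q ≫ φ.τ₃
  have h0 : (Ext.mk₀ ψ).comp hT.extClass (zero_add 1) = 0 := by
    rw [← Ext.mk₀_comp_mk₀, Ext.comp_assoc _ _ _ (zero_add 0) (zero_add 1) (by omega),
      ← ShortComplex.ShortExact.extClass_naturality hS hT φ,
      ← Ext.comp_assoc _ _ _ (zero_add 1) (add_zero 1) (by omega)]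
    exact h _
  obtain ⟨d, hd⟩ := Ext.covariant_sequence_exact₃ _ hT (Ext.mk₀ ψ) (zero_add 1) h0
  obtain ⟨χ, rfl⟩ := (Ext.mk₀_bijective _ _).2 d
  rw [Ext.mk₀_comp_mk₀] at hd
  refine ⟨secZ _ χ, ?_⟩
  rw [← secZ_comp, (Ext.mk₀_bijective _ _).1 hd, secZ_comp, AddEquiv.apply_symm_apply]

theorem exists_lift_sections {S T : ShortComplex X.Modules} (hS : S.ShortExact) (hT : T.ShortExact) (φ : S ⟶ T)
    (h : ∀ x, Hm φ.τ₁ 1 x = 0) (q : Γ(S.X₃, ⊤)) : ∃ w : Γ(T.X₂, ⊤), T.g.app ⊤ w = φ.τ₃.app ⊤ q :=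
  exists_lift_top (S := S.map (CohQC.toAbF X)) (T := T.map (CohQC.toAbF X)) (CohFinite.shortExact_toAb hS)
    (CohFinite.shortExact_toAb hT) ((CohQC.toAbF X).mapShortComplex.map φ) h q

/-- Compatible lifts along a tower with lifts up to a bounded loss. -/
theorem exists_compatible_gap {G : ℕ → Type*} (t : ∀ a b, a ≤ b → G b → G a)
    (ht : ∀ a b c (h : a ≤ b) (h' : b ≤ c) u, t a b h (t b c h' u) = t a c (h.trans h') u)
    (c N : ℕ) (h0 : Function.Surjective (t 0 N (Nat.zero_le N)))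
    (hs : ∀ n, N ≤ n → ∀ u : G n, ∃ w : G (n + 1),
      t (n - c) (n + 1) ((Nat.sub_le n c).trans (Nat.le_succ n)) w = t (n - c) n (Nat.sub_le n c) u) (v : G 0) :
    ∃ σ : ∀ n, G n, (∀ n, t n (n + 1) (Nat.le_succ n) (σ (n + 1)) = σ n) ∧ σ 0 = v := by
  obtain ⟨w, hw⟩ := h0 v
  choose F hF using fun (i : ℕ) (u : G (N + i)) => hs (N + i) (by omega) u
  let σ' : ∀ i, G (N + i) := fun i => Nat.rec w (fun i u => F i u) i
  have hstep : ∀ i j (hj : j + c ≤ N + i ∨ j = 0),
      t j (N + (i + 1)) (by omega) (σ' (i + 1)) = t j (N + i) (by omega) (σ' i) := fun i j hj => by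
    have hle : j ≤ N + i - c := by omega
    have e := congrArg (t j (N + i - c) hle) (hF i (σ' i))
    rw [ht, ht] at e
    exact e
  have h0' : ∀ i, t 0 (N + i) (Nat.zero_le _) (σ' i) = v := fun i => by
    induction i with
    | zero => exact hw
    | succ i ih => exact (hstep i 0 (Or.inr rfl)).trans ih
  refine ⟨fun n => t n (N + (n + c)) (by omega) (σ' (n + c)), fun n => ?_, h0' _⟩
  refine (ht n (n + 1) (N + (n + 1 + c)) (Nat.le_succ n) (by omega) _).trans ?_
  have key : ∀ j, j = n + c + 1 → ∀ hle, t n (N + j) hle (σ' j) = t n (N + (n + c)) (by omega) (σ' (n + c)) := by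
    rintro _ rfl hle
    exact hstep (n + c) n (Or.inl (by omega))
  exact key _ (by omega) _

variable (A : Type u) [CommRing A] [IsNoetherianRing A] [X.Over (Spec (CommRingCat.of A))]
  [IsProper (X ↘ Spec (CommRingCat.of A))] {L : X.Modules}
  (𝔐 : FSch.ModSys (FSch.completionAlong X I))
  (hL : ClSub.IsInverseOf L (ClSub.idealMod I)) (hamp : CohB1.IsAmple L)
  (h𝔐 : ∀ n, FlatMod.IsFinLocFree (𝔐.F n))
  (hkill : ∃ c, KillTw I 1 c (sysObj 𝔐 c))

include hL h𝔐 in
/-- One step of lifting. -/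
theorem exists_step (c m₀ : ℕ)
    (hc : ∀ m, m₀ ≤ m → ∀ H : X.Modules, PicF.cl H = PicF.cl (sysObj 𝔐 c) * PicF.cl (ClSub.idealMod I) ^ m →
      Killed I 1 c H) (r n : ℕ) (hn : c + m₀ + r ≤ n)
    (u : Γ(CohB1.tensorMod (sysObj 𝔐 n) (CohB1.tensorPow L r), ⊤)) :
    ∃ w : Γ(CohB1.tensorMod (sysObj 𝔐 (n + 1)) (CohB1.tensorPow L r), ⊤),
      (tmap (tr 𝔐 ((Nat.sub_le n c).trans (Nat.le_succ n))) (CohB1.tensorPow L r)).app ⊤ w =
        (tmap (tr 𝔐 (Nat.sub_le n c)) (CohB1.tensorPow L r)).app ⊤ u := by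
  have hI := LeffAmple.isEffCartier_of_inverse hL
  obtain ⟨a, rfl⟩ : ∃ a, n = a + c := ⟨n - c, by omega⟩
  obtain ⟨φA, wA, hA, eA⟩ := exists_itSeq 𝔐 hI h𝔐 (a + c) c (a + c + c + 1) rfl
  obtain ⟨φC, wC, hC, eC⟩ := exists_itSeq 𝔐 hI h𝔐 a c (a + c + 1) rfl
  obtain ⟨τ, hτ, hτu⟩ := exists_fac I (a + 1) c (a + c + 1) (by omega)
  have h₂ : a + c + 1 ≤ a + c + c + 1 := by omega
  have hca : a ≤ a + c := Nat.le_add_right a c
  have hcomm : τ.app (sysObj 𝔐 c) ≫ φC = φA ≫ tr 𝔐 h₂ := by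
    haveI := LeffAmple.epi_tr 𝔐 hI (show c ≤ a + c + c + 1 by omega)
    haveI := epi_it hI (a + c + 1) (tr 𝔐 (show c ≤ a + c + c + 1 by omega))
    rw [← cancel_epi ((it I (a + c + 1)).map (tr 𝔐 (show c ≤ a + c + c + 1 by omega))), reassoc_of% eA,
      ← Category.assoc, τ.naturality, Category.assoc,
      ← LeffAmple.tr_comp 𝔐 (show c ≤ a + c + 1 by omega) h₂, Functor.map_comp, Category.assoc, eC, nuA_natural,
      reassoc_of% hτ]
  let P := CohB1.tensorPow L r
  have hP : PicF.IsInvertible P :=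
    TMul.isInvertible_tensorPow (Groth.Agent.S2122.result _ _ hL.some) r
  let φ : ShortComplex.mk φA (tr 𝔐 (show a + c ≤ a + c + c + 1 by omega)) wA ⟶
      ShortComplex.mk φC (tr 𝔐 (show a ≤ a + c + 1 by omega)) wC :=
    ShortComplex.homMk (τ.app (sysObj 𝔐 c)) (tr 𝔐 h₂) (tr 𝔐 hca) hcomm
      ((LeffAmple.tr_comp 𝔐 _ _).trans (LeffAmple.tr_comp 𝔐 _ _).symm)
  haveI : (SerrePn.tens P).PreservesZeroMorphisms := ⟨fun _ _ => CohFinite.tmap_zero _⟩
  let φ' := ((SerrePn.tens P).mapShortComplex).map φ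
  have key : ∀ x, Hm (tmap (τ.app (sysObj 𝔐 c)) P) 1 x = 0 := fun x => by
    obtain ⟨v, hv⟩ := hτu (sysObj 𝔐 c)
    rw [hv, CohFinite.tmap_comp, Hm_comp]
    obtain ⟨s, hs⟩ := exists_nuA_twist (I := I) P ((it I (a + 1)).obj (sysObj 𝔐 c)) c
    rw [← hs, Hm_comp]
    refine hc (a + 1 - r) (by omega) _ ?_ _
    rw [cl_tensor, cl_it, cl_pow]
    obtain ⟨q, hq⟩ : ∃ q, a + 1 = q + r := ⟨a + 1 - r, by omega⟩
    rw [hq, Nat.add_sub_cancel, pow_add]
    calc _ = PicF.cl (sysObj 𝔐 c) * PicF.cl (ClSub.idealMod I) ^ q *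
          (PicF.cl L * PicF.cl (ClSub.idealMod I)) ^ r := by rw [mul_pow]; ac_rfl
      _ = _ := by rw [Groth.Agent.Nakai.cl_inv hL, one_pow, mul_one]
  obtain ⟨w, hw⟩ := exists_lift_sections (CohFinite.shortExact_tmap hP hA) (CohFinite.shortExact_tmap hP hC)
    φ' key u
  refine ⟨w, ?_⟩
  have hgen : ∀ b (hb : b = a) (h1 : b ≤ a + c + 1) (h2 : b ≤ a + c),
      (tmap (tr 𝔐 h1) P).app ⊤ w = (tmap (tr 𝔐 h2) P).app ⊤ u := by
    rintro _ rfl h1 h2
    exact hw
  exact hgen _ (Nat.add_sub_cancel a c) _ _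

end

end Groth.Agent.LeffKill
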