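import Groth.Agent.LeffKill.Algebraize
import Groth.Agent.LeffAmple.Hyp
import Groth.Agent.LefDepth.Sub

/-!
Killing for the levels of locally free systems from killing for the structure sheaf.
-/

set_option autoImplicit false
set_option maxHeartbeats 1000000
set_option linter.style.haveILetI false
set_option linter.unusedSectionVars false
set_option backward.isDefEq.respectTransparency false
set_option backward.isDefEq.respectTransparency.types false
universe u

namespace Groth.Agent.LeffKill

open CategoryTheory CategoryTheory.Limits AlgebraicGeometry TopologicalSpace Opposite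
open Groth.Agent.Nakai (cl_tensor cl_pow cl_one iso_of_cl)
open Groth.Agent.CohFinite (tmap)
open FormAlg (sysObj)

attribute [local instance] Groth.Agent.Nakai.clMonoid

noncomputable section

variable {X : Scheme.{u}} {I : X.IdealSheafData}

theorem killTw_of_cl' {i c d : ℕ} {G G' : X.Modules}
    (hG : PicF.cl G' = PicF.cl G * PicF.cl (ClSub.idealMod I) ^ d) (h : KillTw I i c G) : KillTw I i c G' := by
  obtain ⟨m₀, hm₀⟩ := h
  refine ⟨m₀, fun m hm H hH => hm₀ (m + d) (by omega) H ?_⟩
  rw [hH, hG, mul_assoc, ← pow_add, add_comm d m]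

/-- Positive twists. -/
theorem killTw_twist {L : X.Modules} (hL : ClSub.IsInverseOf L (ClSub.idealMod I)) {i c : ℕ} {G : X.Modules} (r : ℕ)
    (h : KillTw I i c G) : KillTw I i c (CohB1.tensorMod G (CohB1.tensorPow L r)) := by
  refine killTw_of_cl (d := r) ?_ h
  rw [cl_tensor, cl_pow, mul_assoc, ← mul_pow, Groth.Agent.Nakai.cl_inv hL, one_pow, mul_one]

/-- Quotients by powers of the ideal. -/
theorem killTw_quot (hI : BlowUp.IsEffCartierIdeal I) {i c : ℕ}
    (h₀ : KillTw I i c (Coh.structureModule X)) (h₁ : KillTw I (i + 1) c (Coh.structureModule X)) (b : ℕ) :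
    KillTw I i (c + c) (ClSub.quotMod (I ^ (b + 1))) := by
  refine killTw_right hI (CurveRR.ideal_shortExact (I ^ (b + 1))) h₀ (killTw_of_cl' (d := b + 1) ?_ h₁)
  show PicF.cl (ClSub.idealMod (I ^ (b + 1))) = _
  rw [(LefDiv.idealMod_pow hI b).2, cl_one, one_mul]

/-- A module embedded with embedded cokernel into killed sums. -/
theorem killTw_of_embeds (hI : BlowUp.IsEffCartierIdeal I) {c : ℕ} {G E E' : X.Modules} (f : G ⟶ E) [Mono f]
    (k : E ⟶ E') (w : f ≫ k = 0) (hex : (ShortComplex.mk f k w).Exact) (h₀ : KillTw I 0 c E') (h₁ : KillTw I 1 c E) :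
    KillTw I 1 (c + c) G := by
  have hS : (ShortComplex.mk f (cokernel.π f) (cokernel.condition f)).ShortExact :=
    { exact := ShortComplex.exact_of_g_is_cokernel _ (cokernelIsCokernel f) }
  haveI : Mono (cokernel.desc f k w) := (ShortComplex.exact_iff_mono_cokernel_desc _).1 hex
  have hT : (ShortComplex.mk (cokernel.desc f k w) (cokernel.π (cokernel.desc f k w))
      (cokernel.condition _)).ShortExact :=
    { exact := ShortComplex.exact_of_g_is_cokernel _ (cokernelIsCokernel _) }
  have hC : KillTw I 0 c (cokernel f) := killTw_left hI hT h₀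
  obtain ⟨m₁, hm₁⟩ := h₁
  obtain ⟨m₀, hm₀⟩ := hC
  refine ⟨max m₀ m₁, fun m hm H hH => ?_⟩
  obtain ⟨T, hT', e₁, e₂, e₃⟩ := exists_twisted hI hS m
  refine killed_of_iso (iso_of_cl (e₁.trans hH.symm)).some fun x => ?_
  obtain ⟨u, hu⟩ := exists_nuA_add I c c T.X₁
  rw [hu, Hm_comp, Hm_comp]
  let y := Hm (nuA I c ((it I c).obj T.X₁)) 1 (Hm u.hom 1 x)
  have hy : Hm ((it I c).map T.f) 1 y = 0 := by
    show Hm ((it I c).map T.f) 1 (Hm (nuA I c ((it I c).obj T.X₁)) 1 (Hm u.hom 1 x)) = 0
    rw [← Hm_comp, ← nuA_natural, Hm_comp]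
    refine hm₁ (m + c) (by omega) _ ?_ _
    rw [cl_it, e₂, mul_assoc, ← pow_add]
  obtain ⟨z, hz⟩ := (CohFinite.map_f_eq_zero_iff (CohFinite.shortExact_toAb (shortExact_it I hI hT' c)) 0 y).1 hy
  show Hm (nuA I c T.X₁) 1 y = 0
  rw [← hz]
  refine (δH_Hm (shortExact_it I hI hT' c) hT' (nuHom T c) (nuA I c T.X₃) (nuA I c T.X₁) rfl rfl 0 z).symm.trans ?_
  rw [hm₀ m (le_of_max_le_left hm) T.X₃ e₃ z, map_zero]

theorem killTw_push_twist {L : X.Modules} (hL : ClSub.IsInverseOf L (ClSub.idealMod I)) (hamp : CohB1.IsAmple L)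
    {Y : Scheme.{u}} (j : Y ⟶ X) [IsClosedImmersion j] {i c : ℕ}
    (hq : KillTw I i c ((Scheme.Modules.pushforward j).obj (Coh.structureModule Y))) (a : ℕ) :
    KillTw I i c ((Scheme.Modules.pushforward j).obj (CohB1.tensorPow ((Scheme.Modules.pullback j).obj L) a)) := by
  obtain ⟨α, -⟩ := LefDepth.exists_pushTwist_natural j (TMul.isInvertible_tensorPow hamp.1 a)
  obtain ⟨τ⟩ := TMul.nonempty_pullPowIso j L a
  let Q := CohB1.tensorPow ((Scheme.Modules.pullback j).obj L) a
  let Q' := (Scheme.Modules.pullback j).obj (CohB1.tensorPow L a)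
  let τ' : Q' ≅ Q := τ.symm
  let γ : CohB1.tensorMod ((Scheme.Modules.pushforward j).obj (Coh.structureModule Y)) (CohB1.tensorPow L a) ≅
      (Scheme.Modules.pushforward j).obj (CohB1.tensorMod (Coh.structureModule Y) Q') := α (Coh.structureModule Y)
  let β : CohB1.tensorMod (Coh.structureModule Y) Q' ≅ Q := TMul.leftUnitIso Q' ≪≫ τ'
  exact killTw_of_iso (γ ≪≫ (Scheme.Modules.pushforward j).mapIso β) (killTw_twist hL a hq)

theorem killTw_push_sum {L : X.Modules} (hL : ClSub.IsInverseOf L (ClSub.idealMod I)) (hamp : CohB1.IsAmple L)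
    {Y : Scheme.{u}} (j : Y ⟶ X) [IsClosedImmersion j] {i c : ℕ}
    (hq : KillTw I i c ((Scheme.Modules.pushforward j).obj (Coh.structureModule Y))) (a n : ℕ) :
    KillTw I i c ((Scheme.Modules.pushforward j).obj
      (⨁ fun _ : Fin n => CohB1.tensorPow ((Scheme.Modules.pullback j).obj L) a)) := by
  haveI : PreservesFiniteLimits (Scheme.Modules.pushforward j) := by
    haveI := (Scheme.Modules.pullbackPushforwardAdjunction j).rightAdjoint_preservesLimits.{0, 0}
    infer_instance
  haveI : (Scheme.Modules.pushforward j).Additive := Functor.additive_of_preserves_binary_products _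
  exact killTw_of_iso ((Scheme.Modules.pushforward j).mapBiproduct fun _ : Fin n => _).symm
    (killTw_sum (LeffAmple.isEffCartier_of_inverse hL) (killTw_push_twist hL hamp j hq a) n)

variable (A : Type u) [CommRing A] [IsNoetherianRing A] [X.Over (Spec (CommRingCat.of A))]
  [IsProper (X ↘ Spec (CommRingCat.of A))] {L : X.Modules}

include A in
/-- A locally free module on a thickening. -/
theorem killTw_push (hL : ClSub.IsInverseOf L (ClSub.idealMod I)) (hamp : CohB1.IsAmple L) {Y : Scheme.{u}}
    (j : Y ⟶ X) [IsClosedImmersion j] {c : ℕ}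
    (hq : ∀ i, i < 2 → KillTw I i c ((Scheme.Modules.pushforward j).obj (Coh.structureModule Y)))
    {G : Y.Modules} (hG : FlatMod.IsFinLocFree G) :
    KillTw I 1 (c + c) ((Scheme.Modules.pushforward j).obj G) := by
  have hI := LeffAmple.isEffCartier_of_inverse hL
  haveI : IsLocallyNoetherian Y := LocallyOfFiniteType.isLocallyNoetherian (j ≫ (X ↘ Spec (CommRingCat.of A)))
  let p := Scheme.Modules.pushforward j
  haveI : PreservesFiniteLimits p := by
    haveI := (Scheme.Modules.pullbackPushforwardAdjunction j).rightAdjoint_preservesLimits.{0, 0}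
    infer_instance
  haveI : p.Additive := Functor.additive_of_preserves_binary_products _
  let LY := (Scheme.Modules.pullback j).obj L
  have hLY : CohB1.IsAmple LY := TMul.isAmple_pullback_of_isAffineHom j hamp
  have hsum : ∀ i, i < 2 → ∀ a n, KillTw I i c (p.obj (⨁ fun _ : Fin n => CohB1.tensorPow LY a)) := fun i hi a n =>
    killTw_push_sum hL hamp j (hq i hi) a n
  obtain ⟨a, n, f, hf, hC⟩ := LeffAmple.exists_embed hLY hG
  obtain ⟨b, n', g, hg, -⟩ := LeffAmple.exists_embed hLY hC
  haveI := hf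
  haveI := hg
  let k := cokernel.π f ≫ g
  have w : f ≫ k = 0 := by simp [k]
  have hex : (ShortComplex.mk f k w).Exact := by
    refine (ShortComplex.exact_iff_mono_cokernel_desc _).2 ?_
    have e : cokernel.desc f k w = g := coequalizer.hom_ext (by simp [k])
    show Mono (cokernel.desc f k w)
    rw [e]
    exact hg
  haveI : Mono (p.map f) := inferInstance
  exact killTw_of_embeds hI (p.map f) (p.map k) (by rw [← p.map_comp, w, p.map_zero])
    (hex.map_of_mono_of_preservesKernel p inferInstance inferInstance) (hsum 0 (by omega) b n') (hsum 1 (by omega) a n)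

include A in
/-- The levels of locally free systems. -/
theorem exists_killTw_level (hL : ClSub.IsInverseOf L (ClSub.idealMod I)) (hamp : CohB1.IsAmple L)
    (h : ∀ i, i < 3 → ∃ c, KillTw I i c (Coh.structureModule X))
    (𝔐 : FSch.ModSys (FSch.completionAlong X I)) (h𝔐 : ∀ n, FlatMod.IsFinLocFree (𝔐.F n)) :
    ∃ c, KillTw I 1 c (sysObj 𝔐 c) := by
  obtain ⟨c₀, hc₀⟩ := h 0 (by omega)
  obtain ⟨c₁, hc₁⟩ := h 1 (by omega)
  obtain ⟨c₂, hc₂⟩ := h 2 (by omega)
  have hI := LeffAmple.isEffCartier_of_inverse hL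
  let k := max c₀ (max c₁ c₂)
  refine ⟨k + k + (k + k), killTw_push A hL hamp (FSch.completionToX X I (k + k + (k + k))) (fun i hi => ?_) (h𝔐 _)⟩
  have hO : ∀ i, i < 3 → KillTw I i k (Coh.structureModule X) := fun i hi => by
    obtain rfl | rfl | rfl : i = 0 ∨ i = 1 ∨ i = 2 := by omega
    · exact killTw_mono hc₀ (by omega)
    · exact killTw_mono hc₁ (by omega)
    · exact killTw_mono hc₂ (by omega)
  exact killTw_quot hI (hO i (by omega)) (hO (i + 1) (by omega)) _

end

end Groth.Agent.LeffKill
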